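/-
Residue fields of finite algebras over power series rings.
-/
import Mathlib
import Groth.Agent.ArtPow.Basic

set_option autoImplicit false
universe u

namespace Groth.Agent.EGA418Dim

open IsLocalRing

theorem mem_maximalIdeal_iff_constantCoeff {k : Type u} [Field k] {r : ℕ} (f : MvPowerSeries (Fin r) k) :
    f ∈ maximalIdeal (MvPowerSeries (Fin r) k) ↔ MvPowerSeries.constantCoeff f = 0 := by
  rw [mem_maximalIdeal, mem_nonunits_iff, MvPowerSeries.isUnit_iff_constantCoeff, isUnit_iff_ne_zero, not_not]

theorem algebraMap_X_mem_maximalIdeal (k : Type u) [Field k] (r : ℕ) (A : Type u) [CommRing A] [IsLocalRing A]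
    [Algebra (MvPowerSeries (Fin r) k) A] [Module.Finite (MvPowerSeries (Fin r) k) A] (i : Fin r) :
    algebraMap (MvPowerSeries (Fin r) k) A (MvPowerSeries.X i) ∈ maximalIdeal A := by
  have h := IsLocalRing.eq_maximalIdeal (Ideal.isMaximal_comap_of_isIntegral_of_isMaximal
    (R := MvPowerSeries (Fin r) k) (maximalIdeal A))
  show MvPowerSeries.X i ∈ (maximalIdeal A).comap (algebraMap (MvPowerSeries (Fin r) k) A)
  rw [h, mem_maximalIdeal_iff_constantCoeff, MvPowerSeries.constantCoeff_X]

theorem isLocalHom_of_finite (k : Type u) [Field k] (r : ℕ) (A : Type u) [CommRing A] [IsLocalRing A]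
    [Algebra (MvPowerSeries (Fin r) k) A] [Module.Finite (MvPowerSeries (Fin r) k) A] :
    IsLocalHom (algebraMap (MvPowerSeries (Fin r) k) A) := by
  refine ⟨fun f hf => by_contra fun h => ?_⟩
  have h1 := IsLocalRing.eq_maximalIdeal (Ideal.isMaximal_comap_of_isIntegral_of_isMaximal
    (R := MvPowerSeries (Fin r) k) (maximalIdeal A))
  have h2 : f ∈ (maximalIdeal A).comap (algebraMap (MvPowerSeries (Fin r) k) A) := by
    rw [h1]; exact (mem_maximalIdeal f).mpr h
  exact (mem_maximalIdeal _).mp h2 hf

theorem finite_residueField_of_finite (k : Type u) [Field k] (r : ℕ) (A : Type u) [CommRing A] [IsLocalRing A]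
    [Algebra (MvPowerSeries (Fin r) k) A] [Algebra k A] [IsScalarTower k (MvPowerSeries (Fin r) k) A]
    [Module.Finite (MvPowerSeries (Fin r) k) A] : Module.Finite k (ResidueField A) := by
  let P := MvPowerSeries (Fin r) k
  haveI := isLocalHom_of_finite k r A
  obtain ⟨g, hg⟩ := (Module.Finite.fg_top : (⊤ : Submodule P A).FG)
  refine ⟨Submodule.fg_def.mpr ⟨residue A '' (g : Set A), g.finite_toSet.image _, eq_top_iff.mpr fun y hy => ?_⟩⟩
  clear hy
  obtain ⟨a, rfl⟩ := residue_surjective y
  have ha : a ∈ Submodule.span P (g : Set A) := hg ▸ Submodule.mem_top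
  induction ha using Submodule.span_induction with
  | mem x hx => exact Submodule.subset_span ⟨x, hx, rfl⟩
  | zero => rw [map_zero]; exact zero_mem _
  | add x z _ _ hx hz => rw [map_add]; exact add_mem hx hz
  | smul f x _ hx =>
    have h0 : residue A (algebraMap P A f) = algebraMap k (ResidueField A) (MvPowerSeries.constantCoeff f) := by
      rw [IsScalarTower.algebraMap_apply k A (ResidueField A), IsScalarTower.algebraMap_apply k P A]
      show residue A _ = residue A _
      rw [← sub_eq_zero, ← map_sub, ← map_sub, residue_eq_zero_iff, mem_maximalIdeal, mem_nonunits_iff]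
      intro hu
      have h1 := isUnit_of_map_unit (algebraMap P A) _ hu
      rw [MvPowerSeries.isUnit_iff_constantCoeff, map_sub, MvPowerSeries.algebraMap_apply,
        MvPowerSeries.constantCoeff_C, Algebra.algebraMap_self, RingHom.id_apply, sub_self] at h1
      exact not_isUnit_zero h1
    rw [Algebra.smul_def, map_mul, h0, ← Algebra.smul_def]
    exact Submodule.smul_mem _ _ hx

end Groth.Agent.EGA418Dim
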