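/-
Noether normalisation of complete local domains over a field with finite residue extension.
-/
import Mathlib
import Groth.Agent.S0581
import Groth.Agent.SerreReg.CM
import Groth.Agent.SegreDim.Noether
import Groth.Agent.ArtKit.PSRing
import Groth.Agent.EGA41SymGr.Model

set_option autoImplicit false
universe u

namespace Groth.Agent.EGA418Dim

open IsLocalRing

/-- Modules of finite length are finite over a field over which the residue field is finite. -/
theorem finite_of_isFiniteLength {k A : Type u} [Field k] [CommRing A] [IsLocalRing A] [Algebra k A]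
    [Module.Finite k (ResidueField A)] {M : Type u} [AddCommGroup M] [Module A M]
    (h : IsFiniteLength A M) : ∀ [Module k M] [IsScalarTower k A M], Module.Finite k M := by
  induction h with
  | of_subsingleton => intros; infer_instance
  | @of_simple_quotient M _ _ N hs _ ih =>
    intros
    haveI : Module.Finite k N := ih
    obtain ⟨I, hI, ⟨e⟩⟩ := isSimpleModule_iff_quot_maximal.mp hs
    obtain rfl : I = maximalIdeal A := eq_maximalIdeal hI
    haveI : Module.Finite k (A ⧸ maximalIdeal A) := ‹Module.Finite k (ResidueField A)›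
    haveI : Module.Finite k (M ⧸ N) := Module.Finite.equiv ((e.symm.restrictScalars k) :
      (A ⧸ maximalIdeal A) ≃ₗ[k] M ⧸ N)
    exact Module.Finite.of_exact (f := N.subtype.restrictScalars k) (g := N.mkQ.restrictScalars k)
      (LinearMap.exact_subtype_mkQ N) N.mkQ_surjective

/-- Evaluation at a system of parameters is finite, injective on domains. -/
theorem exists_noether {k A : Type u} [Field k] [CommRing A] [IsDomain A] [IsLocalRing A] [IsNoetherianRing A]
    [IsAdicComplete (maximalIdeal A) A] [Algebra k A] [Module.Finite k (ResidueField A)] :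
    ∃ (n : ℕ) (w : MvPowerSeries (Fin n) k →ₐ[k] A), Function.Injective w ∧ IsLocalHom w.toRingHom ∧
      w.toRingHom.Finite ∧ ringKrullDim A = n := by
  classical
  obtain ⟨d, hd⟩ := SerreReg.exists_dim_nat A
  obtain ⟨a, ha⟩ := SerreReg.exists_sop A d hd
  have ham : ∀ i, a i ∈ maximalIdeal A := fun i => ha ▸ Ideal.le_radical (Ideal.subset_span (Set.mem_range_self i))
  obtain ⟨w, hw⟩ := ArtKit.exists_evalAdic (R := k) (maximalIdeal A) a ham
  let P := MvPowerSeries (Fin d) k
  letI algP : Algebra P A := w.toRingHom.toAlgebra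
  haveI : IsScalarTower k P A := IsScalarTower.of_algebraMap_eq fun r => (w.commutes r).symm
  haveI := Cohen.isRegularLocalRing_mvPowerSeries k d
  haveI : IsAdicComplete (maximalIdeal P) P := ArtObs.isAdicComplete_ps k d
  haveI : IsDomain P := NoZeroDivisors.to_isDomain _
  haveI : IsLocalHom w.toRingHom := ⟨fun f hf => by
    by_contra h
    have hf0 : MvPowerSeries.constantCoeff f = 0 := by
      rwa [MvPowerSeries.isUnit_iff_constantCoeff, isUnit_iff_ne_zero, not_not] at h
    have h0 := ArtPow.sub_C_constantCoeff_mem f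
    rw [hf0, map_zero, sub_zero] at h0
    refine (mem_maximalIdeal _).mp ?_ hf
    refine (Ideal.span_le (I := Ideal.comap w.toRingHom (maximalIdeal A))).mpr ?_ h0
    rintro _ ⟨i, rfl⟩
    show w (MvPowerSeries.X i) ∈ maximalIdeal A
    rw [hw]; exact ham i⟩
  let J := (maximalIdeal P).map (algebraMap P A)
  have hJm : J ≤ maximalIdeal A := ((local_hom_TFAE w.toRingHom).out 0 2).mp ‹IsLocalHom w.toRingHom›
  obtain ⟨N, hN⟩ : ∃ N, maximalIdeal A ^ N ≤ J := by
    refine Ideal.exists_pow_le_of_le_radical_of_fg ?_ (IsNoetherian.noetherian _)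
    rw [← ha]
    refine Ideal.radical_mono (Ideal.span_le.mpr ?_)
    rintro _ ⟨i, rfl⟩
    rw [← hw i]
    refine Ideal.mem_map_of_mem (algebraMap P A) ((mem_maximalIdeal _).mpr fun hu => ?_)
    have := MvPowerSeries.isUnit_iff_constantCoeff.mp hu
    rw [MvPowerSeries.constantCoeff_X] at this
    exact not_isUnit_zero this
  haveI : Module.Finite P (A ⧸ J) := by
    haveI : IsNoetherian A (A ⧸ J) := inferInstance
    haveI : IsArtinian A (A ⧸ J) := by
      haveI : Nontrivial (A ⧸ J) := Ideal.Quotient.nontrivial_iff.mpr fun h =>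
        (maximalIdeal.isMaximal A).ne_top (top_le_iff.mp (h ▸ hJm))
      haveI : IsLocalRing (A ⧸ J) := IsLocalRing.of_surjective' (Ideal.Quotient.mk J) Ideal.Quotient.mk_surjective
      haveI : IsArtinianRing (A ⧸ J) := (isArtinianRing_iff_isNilpotent_maximalIdeal _).mpr ⟨N, by
        rw [← IsLocalRing.map_maximalIdeal_of_surjective (Ideal.Quotient.mk J) Ideal.Quotient.mk_surjective,
          ← Ideal.map_pow, Ideal.zero_eq_bot, eq_bot_iff]
        exact (Ideal.map_mono hN).trans (Ideal.map_quotient_self J).le⟩
      exact isArtinian_of_surjective_algebraMap (R := A ⧸ J) Ideal.Quotient.mk_surjective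
    haveI : Module.Finite k (A ⧸ J) := finite_of_isFiniteLength (A := A)
      (isFiniteLength_iff_isNoetherian_isArtinian.mpr ⟨inferInstance, inferInstance⟩)
    exact Module.Finite.of_restrictScalars_finite k P (A ⧸ J)
  haveI : IsHausdorff (maximalIdeal P) A := ⟨fun x hx => IsHausdorff.haus' (I := maximalIdeal A) x fun n => by
    have h := hx n
    rw [SModEq.sub_mem, sub_zero] at h ⊢
    rw [Ideal.smul_top_eq_map, Submodule.restrictScalars_mem, Ideal.map_pow] at h
    rw [smul_eq_mul, Ideal.mul_top]
    exact Ideal.pow_right_mono hJm n h⟩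
  haveI : Module.Finite P (A ⧸ (maximalIdeal P • ⊤ : Submodule P A)) :=
    Module.Finite.equiv ((Submodule.Quotient.restrictScalarsEquiv P J).symm ≪≫ₗ
      Submodule.quotEquivOfEq _ _ (Ideal.smul_top_eq_map (maximalIdeal P)).symm)
  haveI hfin : Module.Finite P A := S0544.result P (maximalIdeal P) A inferInstance
  have hkerzero : ∀ f, w f = 0 → f = 0 := by
    intro f hf
    by_contra hne
    have hnd : f ∈ nonZeroDivisors P := mem_nonZeroDivisors_of_ne_zero hne
    have h1 := ringKrullDim_quotient_succ_le_of_nonZeroDivisor hnd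
    let wb : P ⧸ Ideal.span {f} →+* A := Ideal.Quotient.lift _ w.toRingHom fun y hy => by
      obtain ⟨z, rfl⟩ := Ideal.mem_span_singleton.mp hy
      rw [map_mul, show w.toRingHom f = 0 from hf, zero_mul]
    letI := wb.toAlgebra
    haveI : IsScalarTower P (P ⧸ Ideal.span {f}) A := IsScalarTower.of_algebraMap_eq (R := P) (S := P ⧸ Ideal.span {f}) (A := A) fun r => rfl
    haveI : Module.Finite (P ⧸ Ideal.span {f}) A := Module.Finite.of_restrictScalars_finite P _ A
    haveI : Algebra.IsIntegral (P ⧸ Ideal.span {f}) A := Algebra.IsIntegral.of_finite _ _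
    have h2 : ringKrullDim A ≤ ringKrullDim (P ⧸ Ideal.span {f}) :=
      Order.krullDim_le_of_strictMono (PrimeSpectrum.comap (algebraMap (P ⧸ Ideal.span {f}) A))
        fun a b hab => Ideal.IsIntegral.comap_lt_comap (R := P ⧸ Ideal.span {f}) hab
    rw [EGA41SymGr.Model.ringKrullDim_eq] at h1
    rw [hd] at h2
    have h3 : (d : WithBot ℕ∞) + 1 ≤ d := le_trans (by gcongr) h1
    rw [← Nat.cast_one, ← Nat.cast_add, Nat.cast_le] at h3
    omega
  exact ⟨d, w, (injective_iff_map_eq_zero w).mpr hkerzero, inferInstance, hfin, hd⟩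

end Groth.Agent.EGA418Dim
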