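/-
Power series over an F-finite field are finite over their Frobenius image.
-/
import Mathlib
import Groth.Agent.EGA418Dim.Noether

set_option autoImplicit false
universe u

namespace Groth.Agent.EGA418Dim

open IsLocalRing

theorem finite_of_quotient_map_maximal {R S : Type u} [CommRing R] [IsLocalRing R] [IsAdicComplete (maximalIdeal R) R]
    [CommRing S] [IsLocalRing S] [IsNoetherianRing S] (f : R →+* S) [IsLocalHom f]
    (h : ((Ideal.Quotient.mk ((maximalIdeal R).map f)).comp f).Finite) : f.Finite := by
  letI := f.toAlgebra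
  let J := (maximalIdeal R).map (algebraMap R S)
  have hJm : J ≤ maximalIdeal S := ((local_hom_TFAE f).out 0 2).mp ‹IsLocalHom f›
  haveI : Module.Finite R (S ⧸ J) := by
    rw [← RingHom.finite_algebraMap]
    exact h
  haveI : IsHausdorff (maximalIdeal R) S := ⟨fun x hx => IsHausdorff.haus' (I := maximalIdeal S) x fun n => by
    have h := hx n
    rw [SModEq.sub_mem, sub_zero] at h ⊢
    rw [Ideal.smul_top_eq_map, Submodule.restrictScalars_mem, Ideal.map_pow] at h
    rw [smul_eq_mul, Ideal.mul_top]
    exact Ideal.pow_right_mono hJm n h⟩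
  haveI : Module.Finite R (S ⧸ (maximalIdeal R • ⊤ : Submodule R S)) :=
    Module.Finite.equiv ((Submodule.Quotient.restrictScalarsEquiv R J).symm ≪≫ₗ
      Submodule.quotEquivOfEq _ _ (Ideal.smul_top_eq_map (maximalIdeal R)).symm)
  exact S0544.result R (maximalIdeal R) S inferInstance

theorem finite_frobenius_powerSeries (p : ℕ) [Fact p.Prime] (k : Type u) [Field k] [CharP k p]
    (hk : (frobenius k p).Finite) (n : ℕ) :
    haveI : ExpChar (MvPowerSeries (Fin n) k) p :=
      expChar_of_injective_ringHom (f := (MvPowerSeries.C : k →+* MvPowerSeries (Fin n) k))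
        (RingHom.injective _) p
    (frobenius (MvPowerSeries (Fin n) k) p).Finite := by
  let P := MvPowerSeries (Fin n) k
  haveI : ExpChar P p :=
    expChar_of_injective_ringHom (f := (MvPowerSeries.C : k →+* MvPowerSeries (Fin n) k)) (RingHom.injective _) p
  haveI := Cohen.isRegularLocalRing_mvPowerSeries k n
  haveI : IsAdicComplete (maximalIdeal P) P := ArtObs.isAdicComplete_ps k n
  let F := frobenius P p
  haveI : IsLocalHom F := ⟨fun f hf => (isUnit_pow_iff (Fact.out : p.Prime).ne_zero).mp hf⟩
  refine finite_of_quotient_map_maximal F ?_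
  let J := (maximalIdeal P).map F
  haveI : Module.Finite k (ResidueField P) := by
    refine Module.Finite.of_surjective (Algebra.linearMap k (ResidueField P)) fun y => ?_
    obtain ⟨f, rfl⟩ := residue_surjective y
    refine ⟨MvPowerSeries.constantCoeff f, ?_⟩
    have h : residue P (MvPowerSeries.C (MvPowerSeries.constantCoeff f) - f) = 0 :=
      (residue_eq_zero_iff (R := P) _).mpr <| (mem_maximalIdeal _).mpr fun hu => by
        rw [MvPowerSeries.isUnit_iff_constantCoeff, map_sub, MvPowerSeries.constantCoeff_C, sub_self] at hu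
        exact not_isUnit_zero hu
    rw [map_sub, sub_eq_zero] at h
    rw [Algebra.linearMap_apply, IsScalarTower.algebraMap_apply k P (ResidueField P), MvPowerSeries.algebraMap_apply]
    exact h
  have hJm : J ≤ maximalIdeal P := ((local_hom_TFAE F).out 0 2).mp ‹IsLocalHom F›
  haveI : IsArtinian P (P ⧸ J) := by
    haveI : Nontrivial (P ⧸ J) := Ideal.Quotient.nontrivial_iff.mpr fun h =>
      (maximalIdeal.isMaximal P).ne_top (top_le_iff.mp (h ▸ hJm))
    haveI : IsLocalRing (P ⧸ J) := IsLocalRing.of_surjective' (Ideal.Quotient.mk J) Ideal.Quotient.mk_surjective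
    obtain ⟨N, hN⟩ : ∃ N, maximalIdeal P ^ N ≤ J := by
      refine Ideal.exists_pow_le_of_le_radical_of_fg (fun f hf => ⟨p, ?_⟩) (IsNoetherian.noetherian _)
      exact Ideal.mem_map_of_mem F hf
    haveI : IsArtinianRing (P ⧸ J) := (isArtinianRing_iff_isNilpotent_maximalIdeal _).mpr ⟨N, by
      rw [← IsLocalRing.map_maximalIdeal_of_surjective (Ideal.Quotient.mk J) Ideal.Quotient.mk_surjective,
        ← Ideal.map_pow, Ideal.zero_eq_bot, eq_bot_iff]
      exact (Ideal.map_mono hN).trans (Ideal.map_quotient_self J).le⟩
    exact isArtinian_of_surjective_algebraMap (R := P ⧸ J) Ideal.Quotient.mk_surjective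
  haveI : Module.Finite k (P ⧸ J) := finite_of_isFiniteLength (A := P)
    (isFiniteLength_iff_isNoetherian_isArtinian.mpr ⟨inferInstance, inferInstance⟩)
  have h2 : (algebraMap k (P ⧸ J)).Finite := RingHom.finite_algebraMap.mpr inferInstance
  have h3 := h2.comp hk
  rw [show (algebraMap k (P ⧸ J)).comp (frobenius k p) =
      (((Ideal.Quotient.mk J).comp F).comp (algebraMap k P)) from RingHom.ext fun c => by
    show algebraMap k (P ⧸ J) (frobenius k p c) = Ideal.Quotient.mk J (frobenius P p (algebraMap k P c))
    rw [← RingHom.map_frobenius]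
    rfl] at h3
  exact RingHom.Finite.of_comp_finite h3

end Groth.Agent.EGA418Dim
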