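/-
Flat and unramified at a prime implies etale at the prime.
-/
import Mathlib

set_option autoImplicit false
universe u

namespace Groth.Agent.EGA418Dim

open TensorProduct IsLocalRing

theorem isEtaleAt_of_flat_of_unramified {P A : Type u} [CommRing P] [CommRing A] [Algebra P A]
    [Algebra.FinitePresentation P A] (q : Ideal A) [q.IsPrime] [Algebra.IsUnramifiedAt P q]
    [Module.Flat P (Localization.AtPrime q)] : Algebra.IsEtaleAt P q := by
  let p := q.under P
  let Rp := Localization.AtPrime p
  let Sp := Localization (Algebra.algebraMapSubmonoid A p.primeCompl)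
  let Sq := Localization.AtPrime q
  letI := Localization.AtPrime.algebraOfLiesOver p q
  haveI : IsScalarTower P Rp Sq := IsScalarTower.of_algebraMap_eq fun x => by
    rw [RingHom.algebraMap_toAlgebra, Localization.localRingHom_to_map,
      ← IsScalarTower.algebraMap_apply P A Sq]
  haveI : IsLocalHom (algebraMap Rp Sq) := by
    rw [RingHom.algebraMap_toAlgebra]
    exact Localization.isLocalHom_localRingHom p q (algebraMap P A) Ideal.LiesOver.over
  let f : Sp →ₐ[A] Sq := IsLocalization.liftAlgHom (M := Algebra.algebraMapSubmonoid A p.primeCompl)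
        (f := Algebra.ofId _ _) (by
      rintro ⟨_, x, hx, rfl⟩
      exact IsLocalization.map_units (M := q.primeCompl) Sq ⟨algebraMap _ _ x, hx⟩)
  algebraize [f.toRingHom]
  haveI : IsScalarTower A Sp Sq := IsScalarTower.of_algebraMap_eq fun x => (f.commutes x).symm
  haveI : IsScalarTower P Sp Sq := IsScalarTower.of_algebraMap_eq fun x => by
    rw [IsScalarTower.algebraMap_apply P A Sq, IsScalarTower.algebraMap_apply P A Sp,
      ← IsScalarTower.algebraMap_apply A Sp Sq]
  haveI : IsScalarTower Rp Sp Sq := .of_algebraMap_eq' <| by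
    apply IsLocalization.ringHom_ext p.primeCompl
    simp only [RingHom.comp_assoc, ← IsScalarTower.algebraMap_eq]
  haveI : IsLocalization (Algebra.algebraMapSubmonoid Sp q.primeCompl) Sq :=
    .isLocalization_of_submonoid_le _ _ (Algebra.algebraMapSubmonoid A p.primeCompl) _
    (by rintro _ ⟨x, hx, rfl⟩; exact hx)
  haveI : Algebra.FinitePresentation Rp Sp := by
    have : Algebra.IsPushout P Rp A Sp :=
      .symm <| Algebra.isPushout_of_isLocalization p.primeCompl _ _ _
    exact .equiv (Algebra.IsPushout.equiv P Rp A Sp)
  haveI : Module.Flat Rp Sq := (Module.flat_iff_of_isLocalization Rp p.primeCompl Sq).2 inferInstance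
  haveI : Algebra.FormallyUnramified Rp Sq := Algebra.FormallyUnramified.of_restrictScalars P _ _
  haveI : Algebra.EssFiniteType A Sq := Algebra.EssFiniteType.of_isLocalization _ q.primeCompl
  haveI : Algebra.EssFiniteType P Sq := Algebra.EssFiniteType.comp P A _
  haveI : Algebra.EssFiniteType Rp Sq := Algebra.EssFiniteType.of_comp P _ _
  haveI : Algebra.FormallyEtale (ResidueField Rp) (ResidueField Rp ⊗[Rp] Sq) :=
    Algebra.FormallyEtale.of_formallyUnramified_of_field _ _
  haveI : Algebra.FormallySmooth Rp Sq := Algebra.FormallySmooth.of_formallySmooth_residueField_tensor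
    (R := Rp) (S := Sq) (P := Sp) (Algebra.algebraMapSubmonoid _ q.primeCompl)
  haveI : Algebra.FormallyEtale P Rp := Algebra.FormallyEtale.of_isLocalization p.primeCompl
  haveI : Algebra.FormallySmooth P Sq := Algebra.FormallySmooth.comp P Rp Sq
  exact Algebra.FormallyEtale.iff_formallyUnramified_and_formallySmooth.mpr ⟨inferInstance, inferInstance⟩

end Groth.Agent.EGA418Dim
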