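/-
Finite algebras over power series rings unramified at a prime of full dimension.
-/
import Mathlib
import Groth.Agent.EGA418Dim.Noether
import Groth.Agent.EGA418Dim.EtaleAt
import Groth.Agent.CMChart.Ring
import Groth.Agent.CMFlat.Quotient
import Groth.Agent.RootCover.Regular

set_option autoImplicit false
universe u

namespace Groth.Agent.EGA418Dim

open IsLocalRing TensorProduct

/-- Flat unramified local algebras essentially of finite type over regular local rings are regular. -/
theorem regular_of_flat_unramified {B A : Type u} [CommRing B] [CommRing A] [Algebra B A] [IsNoetherianRing B]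
    [IsNoetherianRing A] [Module.Flat B A] [Algebra.EssFiniteType B A] (Q : Ideal A) [Q.IsPrime]
    [IsRegularLocalRing (Localization.AtPrime (Q.under B))]
    [Algebra.FormallyUnramified B (Localization.AtPrime Q)] : IsRegularLocalRing (Localization.AtPrime Q) := by
  letI := Localization.AtPrime.algebraOfLiesOver (Q.under B) Q
  haveI : IsScalarTower B (Localization.AtPrime (Q.under B)) (Localization.AtPrime Q) :=
    IsScalarTower.of_algebraMap_eq fun x => by
      rw [RingHom.algebraMap_toAlgebra, Localization.localRingHom_to_map,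
        ← IsScalarTower.algebraMap_apply B A (Localization.AtPrime Q)]
  haveI : IsLocalHom (algebraMap (Localization.AtPrime (Q.under B)) (Localization.AtPrime Q)) := by
    rw [RingHom.algebraMap_toAlgebra]
    exact Localization.isLocalHom_localRingHom (Q.under B) Q (algebraMap B A) Ideal.LiesOver.over
  haveI : Algebra.EssFiniteType A (Localization.AtPrime Q) := Algebra.EssFiniteType.of_isLocalization _ Q.primeCompl
  haveI : Algebra.EssFiniteType B (Localization.AtPrime Q) := Algebra.EssFiniteType.comp B A _
  haveI : Algebra.EssFiniteType (Localization.AtPrime (Q.under B)) (Localization.AtPrime Q) :=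
    Algebra.EssFiniteType.of_comp B _ _
  haveI : Algebra.FormallyUnramified (Localization.AtPrime (Q.under B)) (Localization.AtPrime Q) :=
    Algebra.FormallyUnramified.of_restrictScalars B _ _
  refine IsRegularLocalRing.of_spanFinrank_maximalIdeal_le _ ?_
  rw [← Algebra.FormallyUnramified.map_maximalIdeal (R := Localization.AtPrime (Q.under B))]
  refine le_trans (WithBot.coe_le_coe.2 (Nat.cast_le.2 (Ideal.spanFinrank_map_le_of_fg _ (IsNoetherian.noetherian _)))) ?_
  exact le_of_eq_of_le IsRegularLocalRing.spanFinrank_maximalIdeal (RootCover.dim_le Q)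

/-- A finite algebra over a normal domain of the same dimension at a component of full dimension. -/
theorem height_under_le {P A : Type u} [CommRing P] [IsDomain P] [IsNoetherianRing P] [IsLocalRing P]
    [IsIntegrallyClosed P] [CommRing A] [Algebra P A] [Module.Finite P A] {n : ℕ} (hP : ringKrullDim P = n)
    (p q : Ideal A) [p.IsPrime] [q.IsPrime] (hqp : q ≤ p) (hq : ringKrullDim (A ⧸ q) = n) :
    (p.under P).height ≤ p.height := by
  let B := A ⧸ q
  haveI : Module.Finite P B := Module.Finite.of_surjective (Ideal.Quotient.mkₐ P q).toLinearMap Ideal.Quotient.mk_surjective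
  haveI : FaithfulSMul P B := (faithfulSMul_iff_algebraMap_injective P B).mpr <| by
    rw [injective_iff_map_eq_zero]
    intro f hf
    by_contra hne
    have h1 := ringKrullDim_quotient_succ_le_of_nonZeroDivisor (mem_nonZeroDivisors_of_ne_zero hne)
    let wb : P ⧸ Ideal.span {f} →+* B := Ideal.Quotient.lift _ (algebraMap P B) fun y hy => by
      obtain ⟨z, rfl⟩ := Ideal.mem_span_singleton.mp hy
      rw [map_mul, hf, zero_mul]
    letI := wb.toAlgebra
    haveI : IsScalarTower P (P ⧸ Ideal.span {f}) B := IsScalarTower.of_algebraMap_eq (R := P) (S := P ⧸ Ideal.span {f}) (A := B) fun r => rfl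
    haveI : Module.Finite (P ⧸ Ideal.span {f}) B := Module.Finite.of_restrictScalars_finite P _ B
    haveI : Algebra.IsIntegral (P ⧸ Ideal.span {f}) B := Algebra.IsIntegral.of_finite _ _
    have h2 : ringKrullDim B ≤ ringKrullDim (P ⧸ Ideal.span {f}) :=
      Order.krullDim_le_of_strictMono (PrimeSpectrum.comap (algebraMap (P ⧸ Ideal.span {f}) B))
        fun a b hab => Ideal.IsIntegral.comap_lt_comap (R := P ⧸ Ideal.span {f}) hab
    rw [hP] at h1
    rw [hq] at h2
    have h3 : (n : WithBot ℕ∞) + 1 ≤ n := le_trans (by gcongr) h1
    rw [← Nat.cast_one, ← Nat.cast_add, Nat.cast_le] at h3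
    omega
  haveI : Algebra.IsIntegral P B := Algebra.IsIntegral.of_finite P B
  haveI : IsNoetherianRing B := IsNoetherianRing.of_finite P B
  haveI : IsNoetherianRing A := IsNoetherianRing.of_finite P A
  let p' : Ideal B := p.map (Ideal.Quotient.mk q)
  haveI : p'.IsPrime := Ideal.map_isPrime_of_surjective Ideal.Quotient.mk_surjective (by rwa [Ideal.mk_ker])
  have hc : p'.comap (Ideal.Quotient.mk q) = p := by
    rw [Ideal.comap_map_of_surjective _ Ideal.Quotient.mk_surjective, ← RingHom.ker_eq_comap_bot, Ideal.mk_ker,
      sup_eq_left.mpr hqp]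
  have hu : p'.under P = p.under P := by
    rw [Ideal.under_def, Ideal.under_def, show algebraMap P B = (Ideal.Quotient.mk q).comp (algebraMap P A) from rfl,
      ← Ideal.comap_comap, hc]
  have h1 := Ideal.height_eq_height_add_of_liesOver_of_hasGoingDown (p'.under P) p'
  have h2 : p'.height ≤ p.height := by
    rw [show p'.height = Order.height (⟨p', inferInstance⟩ : PrimeSpectrum B) from PrimeSpectrum.height_eq_orderHeight ⟨p', inferInstance⟩,
      show p.height = Order.height (⟨p, inferInstance⟩ : PrimeSpectrum A) from PrimeSpectrum.height_eq_orderHeight ⟨p, inferInstance⟩]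
    exact le_trans (Order.height_le_height_apply_of_strictMono (PrimeSpectrum.comap (Ideal.Quotient.mk q))
      (fun a b hab => (Ideal.comap_mono hab.le).lt_of_ne fun h => hab.ne (PrimeSpectrum.ext
        (Ideal.comap_injective_of_surjective _ Ideal.Quotient.mk_surjective h)))
      ⟨p', inferInstance⟩) (le_of_eq (congrArg Order.height (PrimeSpectrum.ext hc)))
  rw [← hu]
  exact le_trans (by rw [h1]; exact le_self_add) h2

/-- Unramified at a prime of full dimension over a regular domain implies flat, regular and etale. -/
theorem etale_of_unramified {P A : Type u} [CommRing P] [IsDomain P] [IsLocalRing P] [IsRegularRing P]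
    [IsIntegrallyClosed P] [CommRing A] [Algebra P A] [Module.Finite P A] {n : ℕ} (hP : ringKrullDim P = n)
    (p q : Ideal A) [p.IsPrime] [q.IsPrime] (hqp : q ≤ p) (hq : ringKrullDim (A ⧸ q) = n)
    [Algebra.IsUnramifiedAt P p] :
    Module.Flat P (Localization.AtPrime p) ∧ IsRegularLocalRing (Localization.AtPrime p) ∧ Algebra.IsEtaleAt P p := by
  haveI : IsNoetherianRing A := IsNoetherianRing.of_finite P A
  let p0 := p.under P
  let Rp := Localization.AtPrime p0
  let Sq := Localization.AtPrime p
  letI := Localization.AtPrime.algebraOfLiesOver p0 p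
  haveI : IsScalarTower P Rp Sq := IsScalarTower.of_algebraMap_eq fun x => by
    rw [RingHom.algebraMap_toAlgebra, Localization.localRingHom_to_map,
      ← IsScalarTower.algebraMap_apply P A Sq]
  haveI : IsLocalHom (algebraMap Rp Sq) := by
    rw [RingHom.algebraMap_toAlgebra]
    exact Localization.isLocalHom_localRingHom p0 p (algebraMap P A) Ideal.LiesOver.over
  haveI : Algebra.EssFiniteType A Sq := Algebra.EssFiniteType.of_isLocalization _ p.primeCompl
  haveI : Algebra.EssFiniteType P Sq := Algebra.EssFiniteType.comp P A _
  haveI : Algebra.EssFiniteType Rp Sq := Algebra.EssFiniteType.of_comp P _ _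
  haveI : Algebra.FormallyUnramified Rp Sq := Algebra.FormallyUnramified.of_restrictScalars P _ _
  have hmap : (maximalIdeal Rp).map (algebraMap Rp Sq) = maximalIdeal Sq := Algebra.FormallyUnramified.map_maximalIdeal
  have hfib : ∀ J : Ideal Sq, J.IsPrime → J.comap (algebraMap Rp Sq) = maximalIdeal Rp → J = maximalIdeal Sq := by
    intro J hJ hcomap
    refine le_antisymm (IsLocalRing.le_maximalIdeal hJ.ne_top) ?_
    rw [← hmap, Ideal.map_le_iff_le_comap, hcomap]
  have hdim : ringKrullDim Rp ≤ ringKrullDim Sq := by
    rw [IsLocalization.AtPrime.ringKrullDim_eq_height p0, IsLocalization.AtPrime.ringKrullDim_eq_height p]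
    exact WithBot.coe_le_coe.2 (height_under_le hP p q hqp hq)
  haveI hreg : IsRegularLocalRing Sq := by
    refine IsRegularLocalRing.of_spanFinrank_maximalIdeal_le _ ?_
    rw [← hmap]
    refine le_trans (WithBot.coe_le_coe.2 (Nat.cast_le.2 (Ideal.spanFinrank_map_le_of_fg _ (IsNoetherian.noetherian _)))) ?_
    exact le_of_eq_of_le IsRegularLocalRing.spanFinrank_maximalIdeal hdim
  haveI := CMFlat.isCohenMacaulayLocalRing_of_isRegularLocalRing Sq
  haveI : Module.Flat Rp Sq := CMChart.flat_of_cohenMacaulay hfib hdim
  haveI : Module.Flat P Rp := IsLocalization.flat Rp p0.primeCompl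
  haveI hflat : Module.Flat P Sq := Module.Flat.trans P Rp Sq
  haveI : Algebra.FinitePresentation P A := Algebra.FinitePresentation.of_finiteType.mp inferInstance
  exact ⟨hflat, hreg, isEtaleAt_of_flat_of_unramified p⟩

end Groth.Agent.EGA418Dim
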