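/-
Finite maps from power series rings given by elements generating an ideal of definition.
-/
import Mathlib
import Groth.Agent.EGA418Dim.Noether

set_option autoImplicit false
universe u

namespace Groth.Agent.EGA418Dim

open IsLocalRing

theorem exists_finite_evalAdic {k A : Type u} [Field k] [CommRing A] [IsLocalRing A] [IsNoetherianRing A]
    [IsAdicComplete (maximalIdeal A) A] [Algebra k A] [Module.Finite k (ResidueField A)] {d : ℕ} (a : Fin d → A)
    (ham : ∀ i, a i ∈ maximalIdeal A) (ha : (Ideal.span (Set.range a)).radical = maximalIdeal A) :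
    ∃ w : MvPowerSeries (Fin d) k →ₐ[k] A, (∀ i, w (MvPowerSeries.X i) = a i) ∧ IsLocalHom w.toRingHom ∧
      w.toRingHom.Finite := by
  classical
  obtain ⟨w, hw⟩ := ArtKit.exists_evalAdic (R := k) (maximalIdeal A) a ham
  let P := MvPowerSeries (Fin d) k
  letI algP : Algebra P A := w.toRingHom.toAlgebra
  haveI : IsScalarTower k P A := IsScalarTower.of_algebraMap_eq fun r => (w.commutes r).symm
  haveI := Cohen.isRegularLocalRing_mvPowerSeries k d
  haveI : IsAdicComplete (maximalIdeal P) P := ArtObs.isAdicComplete_ps k d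
  haveI : IsLocalHom w.toRingHom := ⟨fun f hf => by
    by_contra h
    have hf0 : MvPowerSeries.constantCoeff f = 0 := by
      rwa [MvPowerSeries.isUnit_iff_constantCoeff, isUnit_iff_ne_zero, not_not] at h
    have h0 := ArtPow.sub_C_constantCoeff_mem f
    rw [hf0, map_zero, sub_zero] at h0
    refine (mem_maximalIdeal _).mp ?_ hf
    refine (Ideal.span_le (I := Ideal.comap w.toRingHom (maximalIdeal A))).mpr ?_ h0
    rintro _ ⟨i, rfl⟩
    show w (MvPowerSeries.X i) ∈ maximalIdeal A
    rw [hw]; exact ham i⟩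
  let J := (maximalIdeal P).map (algebraMap P A)
  have hJm : J ≤ maximalIdeal A := ((local_hom_TFAE w.toRingHom).out 0 2).mp ‹IsLocalHom w.toRingHom›
  obtain ⟨N, hN⟩ : ∃ N, maximalIdeal A ^ N ≤ J := by
    refine Ideal.exists_pow_le_of_le_radical_of_fg ?_ (IsNoetherian.noetherian _)
    rw [← ha]
    refine Ideal.radical_mono (Ideal.span_le.mpr ?_)
    rintro _ ⟨i, rfl⟩
    rw [← hw i]
    refine Ideal.mem_map_of_mem (algebraMap P A) ((mem_maximalIdeal _).mpr fun hu => ?_)
    have := MvPowerSeries.isUnit_iff_constantCoeff.mp hu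
    rw [MvPowerSeries.constantCoeff_X] at this
    exact not_isUnit_zero this
  haveI : Module.Finite P (A ⧸ J) := by
    haveI : IsNoetherian A (A ⧸ J) := inferInstance
    haveI : IsArtinian A (A ⧸ J) := by
      haveI : Nontrivial (A ⧸ J) := Ideal.Quotient.nontrivial_iff.mpr fun h =>
        (maximalIdeal.isMaximal A).ne_top (top_le_iff.mp (h ▸ hJm))
      haveI : IsLocalRing (A ⧸ J) := IsLocalRing.of_surjective' (Ideal.Quotient.mk J) Ideal.Quotient.mk_surjective
      haveI : IsArtinianRing (A ⧸ J) := (isArtinianRing_iff_isNilpotent_maximalIdeal _).mpr ⟨N, by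
        rw [← IsLocalRing.map_maximalIdeal_of_surjective (Ideal.Quotient.mk J) Ideal.Quotient.mk_surjective,
          ← Ideal.map_pow, Ideal.zero_eq_bot, eq_bot_iff]
        exact (Ideal.map_mono hN).trans (Ideal.map_quotient_self J).le⟩
      exact isArtinian_of_surjective_algebraMap (R := A ⧸ J) Ideal.Quotient.mk_surjective
    haveI : Module.Finite k (A ⧸ J) := finite_of_isFiniteLength (A := A)
      (isFiniteLength_iff_isNoetherian_isArtinian.mpr ⟨inferInstance, inferInstance⟩)
    exact Module.Finite.of_restrictScalars_finite k P (A ⧸ J)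
  haveI : IsHausdorff (maximalIdeal P) A := ⟨fun x hx => IsHausdorff.haus' (I := maximalIdeal A) x fun n => by
    have h := hx n
    rw [SModEq.sub_mem, sub_zero] at h ⊢
    rw [Ideal.smul_top_eq_map, Submodule.restrictScalars_mem, Ideal.map_pow] at h
    rw [smul_eq_mul, Ideal.mul_top]
    exact Ideal.pow_right_mono hJm n h⟩
  haveI : Module.Finite P (A ⧸ (maximalIdeal P • ⊤ : Submodule P A)) :=
    Module.Finite.equiv ((Submodule.Quotient.restrictScalarsEquiv P J).symm ≪≫ₗ
      Submodule.quotEquivOfEq _ _ (Ideal.smul_top_eq_map (maximalIdeal P)).symm)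
  haveI hfin : Module.Finite P A := S0544.result P (maximalIdeal P) A inferInstance
  exact ⟨w, hw, inferInstance, hfin⟩

end Groth.Agent.EGA418Dim
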