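/-
Bounds for fibres of modules of differentials at regular points.
-/
import Mathlib
import Groth.Agent.S2469

set_option autoImplicit false
universe u v

namespace Groth.Agent.EGA418Dim

open IsLocalRing TensorProduct

/-- Local generators of a prime with regular local ring. -/
theorem exists_generators {S : Type u} [CommRing S] (M : Ideal S) [M.IsPrime]
    [IsRegularLocalRing (Localization.AtPrime M)] :
    ∃ (h : ℕ) (y : Fin h → S), (h : WithBot ℕ∞) = ringKrullDim (Localization.AtPrime M) ∧ (∀ j, y j ∈ M) ∧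
      ∀ a ∈ M, ∃ s ∈ M.primeCompl, s * a ∈ Ideal.span (Set.range y) := by
  classical
  let L := Localization.AtPrime M
  obtain ⟨g, hg⟩ := Submodule.FG.exists_span_set_encard_eq_spanFinrank
    (IsNoetherian.noetherian (maximalIdeal L) : (maximalIdeal L).FG)
  have hfin : g.Finite := Set.encard_ne_top_iff.mp (by rw [hg.1]; exact ENat.coe_ne_top _)
  haveI := hfin.fintype
  let e : Fin (Fintype.card g) ≃ g := (Fintype.equivFin g).symm
  choose z t hzt using fun j => IsLocalization.exists_mk'_eq M.primeCompl ((e j : g) : L)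
  refine ⟨Fintype.card g, z, ?_, fun j => ?_, fun a ha => ?_⟩
  · rw [← IsRegularLocalRing.spanFinrank_maximalIdeal]
    have : g.encard = (Fintype.card g : ℕ∞) := by rw [Set.encard_eq_coe_toFinset_card, Set.toFinset_card]
    rw [this] at hg
    exact_mod_cast congrArg (fun x : ℕ∞ => (x : WithBot ℕ∞)) hg.1
  · have h : IsLocalization.mk' L (z j) (t j) ∈ maximalIdeal L := by
      rw [hzt]
      exact hg.2 ▸ Submodule.subset_span (e j).2
    exact (IsLocalization.AtPrime.mk'_mem_maximal_iff L M (z j) (t j)).mp h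
  · have hle : maximalIdeal L ≤ (Ideal.span (Set.range z)).map (algebraMap S L) := by
      rw [← hg.2]
      refine Ideal.span_le.mpr fun w hw => ?_
      obtain ⟨j, hj⟩ := e.surjective ⟨w, hw⟩
      rw [show w = IsLocalization.mk' L (z j) (t j) by rw [hzt, hj]]
      exact (IsLocalization.mk'_mem_map_algebraMap_iff M.primeCompl L _ _ _).mpr
        ⟨1, one_mem _, by rw [one_mul]; exact Ideal.subset_span ⟨j, rfl⟩⟩
    have h2 : algebraMap S L a ∈ maximalIdeal L := by
      rw [← Localization.AtPrime.map_eq_maximalIdeal]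
      exact Ideal.mem_map_of_mem _ ha
    exact (IsLocalization.algebraMap_mem_map_algebraMap_iff M.primeCompl L _ _).mp (hle h2)

variable (R0 : Type v) [CommRing R0] {S : Type u} [CommRing S] [Algebra R0 S] (M : Ideal S) [M.IsPrime]

/-- The fibre of the differentials is bounded by a number of local generators and the residue field. -/
theorem rank_fibre_le {h : ℕ} (y : Fin h → S) (hy : ∀ j, y j ∈ M)
    (hgen : ∀ a ∈ M, ∃ s ∈ M.primeCompl, s * a ∈ Ideal.span (Set.range y))
    [Module.Finite M.ResidueField (Ω[M.ResidueField⁄R0])] :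
    Module.rank M.ResidueField (M.ResidueField ⊗[S] Ω[S⁄R0]) ≤
      (h + Module.finrank M.ResidueField (Ω[M.ResidueField⁄R0]) : ℕ) := by
  classical
  let κ := M.ResidueField
  let C := S ⧸ M
  let v : Fin h → κ ⊗[S] Ω[S⁄R0] := fun j => (1 : κ) ⊗ₜ[S] KaehlerDifferential.D R0 S (y j)
  let W := Submodule.span κ (Set.range v)
  let d : S → (κ ⊗[S] Ω[S⁄R0]) ⧸ W := fun a => W.mkQ ((1 : κ) ⊗ₜ[S] KaehlerDifferential.D R0 S a)
  have hsm : ∀ (a : S) (w : Ω[S⁄R0]), W.mkQ ((1 : κ) ⊗ₜ[S] (a • w)) = algebraMap S κ a • W.mkQ ((1 : κ) ⊗ₜ[S] w) := by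
    intro a w
    rw [TensorProduct.tmul_smul, ← algebraMap_smul κ a, map_smul]
  have hadd : ∀ a b, d (a + b) = d a + d b := fun a b => by
    simp only [d, map_add, TensorProduct.tmul_add]
  have hmul : ∀ a b, d (a * b) = algebraMap S κ a • d b + algebraMap S κ b • d a := fun a b => by
    simp only [d, Derivation.leibniz, TensorProduct.tmul_add, map_add, hsm]
  have hzero : ∀ a ∈ M, d a = 0 := by
    intro a ha
    have h0 : ∀ b ∈ Ideal.span (Set.range y), d b = 0 := fun b hb => by
      obtain ⟨c, rfl⟩ := Ideal.mem_span_range_iff_exists_fun.mp hb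
      show W.mkQ ((1 : κ) ⊗ₜ[S] KaehlerDifferential.D R0 S (∑ j, c j * y j)) = 0
      rw [map_sum, TensorProduct.tmul_sum, map_sum]
      refine Finset.sum_eq_zero fun j _ => ?_
      rw [Derivation.leibniz, TensorProduct.tmul_add, map_add, hsm, hsm,
        show W.mkQ ((1 : κ) ⊗ₜ[S] KaehlerDifferential.D R0 S (y j)) = 0 from
          (Submodule.Quotient.mk_eq_zero W).mpr (Submodule.subset_span ⟨j, rfl⟩),
        Ideal.algebraMap_residueField_eq_zero.mpr (hy j), smul_zero, zero_smul, add_zero]
    obtain ⟨s, hs, hsa⟩ := hgen a ha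
    have h1 := h0 _ hsa
    rw [hmul, Ideal.algebraMap_residueField_eq_zero.mpr ha, zero_smul, add_zero] at h1
    exact (smul_eq_zero.mp h1).resolve_left fun h => hs (Ideal.algebraMap_residueField_eq_zero.mp h)
  let dC : C → (κ ⊗[S] Ω[S⁄R0]) ⧸ W := fun x => Quotient.liftOn' x d fun a b hab => by
    have hm : a - b ∈ M := Submodule.quotientRel_def M |>.mp hab
    rw [← sub_add_cancel a b, hadd, hzero _ hm, zero_add]
  have hdC : ∀ a, dC (Ideal.Quotient.mk M a) = d a := fun a => rfl
  haveI : IsScalarTower R0 C κ := IsScalarTower.of_algebraMap_eq fun r => by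
    rw [IsScalarTower.algebraMap_apply R0 S κ, IsScalarTower.algebraMap_apply R0 S C,
      ← IsScalarTower.algebraMap_apply S C κ]
  let δ : Derivation R0 C ((κ ⊗[S] Ω[S⁄R0]) ⧸ W) := Derivation.mk'
    { toFun := dC
      map_add' := fun x z => by
        obtain ⟨a, rfl⟩ := Ideal.Quotient.mk_surjective x
        obtain ⟨b, rfl⟩ := Ideal.Quotient.mk_surjective z
        rw [← map_add, hdC, hdC, hdC, hadd]
      map_smul' := fun r x => by
        obtain ⟨a, rfl⟩ := Ideal.Quotient.mk_surjective x
        rw [RingHom.id_apply, show r • Ideal.Quotient.mk M a = Ideal.Quotient.mk M (r • a) from rfl, hdC, hdC]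
        simp only [d]
        rw [(KaehlerDifferential.D R0 S).map_smul, ← algebraMap_smul S r, hsm,
          ← IsScalarTower.algebraMap_apply R0 S κ, algebraMap_smul] }
    fun x z => by
      obtain ⟨a, rfl⟩ := Ideal.Quotient.mk_surjective x
      obtain ⟨b, rfl⟩ := Ideal.Quotient.mk_surjective z
      simp only [LinearMap.coe_mk, AddHom.coe_mk]
      rw [← map_mul, hdC, hdC, hdC, hmul]
      rw [← algebraMap_smul κ (Ideal.Quotient.mk M a), ← algebraMap_smul κ (Ideal.Quotient.mk M b)]
      rfl
  haveI : Algebra.FormallyEtale C κ := Algebra.FormallyEtale.of_isLocalization (nonZeroDivisors C)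
  let Φ : Ω[κ⁄R0] →ₗ[κ] (κ ⊗[S] Ω[S⁄R0]) ⧸ W := (δ.liftKaehlerDifferential.liftBaseChange κ) ∘ₗ
    (KaehlerDifferential.tensorKaehlerEquivOfFormallyEtale R0 C κ).symm.toLinearMap
  have hΦ : Function.Surjective Φ := by
    rw [← LinearMap.range_eq_top, eq_top_iff]
    rintro q -
    obtain ⟨v, rfl⟩ := W.mkQ_surjective q
    induction v using TensorProduct.induction_on with
    | zero => rw [map_zero]; exact zero_mem _
    | add a b ha hb => rw [map_add]; exact add_mem ha hb
    | tmul x w =>
      rw [show x ⊗ₜ[S] w = x • ((1 : κ) ⊗ₜ[S] w) by rw [TensorProduct.smul_tmul', smul_eq_mul, mul_one], map_smul]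
      refine Submodule.smul_mem _ _ ?_
      have hw : w ∈ Submodule.span S (Set.range (KaehlerDifferential.D R0 S)) :=
        (KaehlerDifferential.span_range_derivation R0 S).symm ▸ Submodule.mem_top
      induction hw using Submodule.span_induction with
      | mem u hu =>
        obtain ⟨a, rfl⟩ := hu
        refine ⟨KaehlerDifferential.tensorKaehlerEquivOfFormallyEtale R0 C κ
          ((1 : κ) ⊗ₜ[C] KaehlerDifferential.D R0 C (Ideal.Quotient.mk M a)), ?_⟩
        show (δ.liftKaehlerDifferential.liftBaseChange κ)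
          ((KaehlerDifferential.tensorKaehlerEquivOfFormallyEtale R0 C κ).symm _) = _
        rw [LinearEquiv.symm_apply_apply, LinearMap.liftBaseChange_tmul, one_smul,
          Derivation.liftKaehlerDifferential_comp_D]
        exact hdC a
      | zero => rw [TensorProduct.tmul_zero, map_zero]; exact zero_mem _
      | add a b _ _ ha hb => rw [TensorProduct.tmul_add, map_add]; exact add_mem ha hb
      | smul a b _ hb => rw [hsm]; exact Submodule.smul_mem _ _ hb
  haveI : Module.Finite κ ((κ ⊗[S] Ω[S⁄R0]) ⧸ W) := Module.Finite.of_surjective Φ hΦ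
  rw [← Submodule.rank_quotient_add_rank W, ← Module.finrank_eq_rank κ, Nat.cast_add, add_comm (h : Cardinal)]
  refine add_le_add (Nat.cast_le.mpr (LinearMap.finrank_le_finrank_of_surjective (f := Φ) hΦ)) ?_
  haveI : Module.Finite κ W := Module.Finite.iff_fg.mpr (Submodule.fg_span (Set.finite_range v))
  rw [← Module.finrank_eq_rank κ W, Nat.cast_le]
  exact (finrank_range_le_card v).trans (Fintype.card_fin h).le

/-- `rank_fibre_le` for absolute differentials. -/
theorem rank_fibre_le_int {S : Type u} [CommRing S] (M : Ideal S) [M.IsPrime] {h : ℕ} (y : Fin h → S)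
    (hy : ∀ j, y j ∈ M) (hgen : ∀ a ∈ M, ∃ s ∈ M.primeCompl, s * a ∈ Ideal.span (Set.range y))
    [iK : Algebra ℤ M.ResidueField] [Module.Finite M.ResidueField (Ω[M.ResidueField⁄ℤ])] :
    Module.rank M.ResidueField (M.ResidueField ⊗[S] Ω[S⁄ℤ]) ≤
      (h + Module.finrank M.ResidueField (Ω[M.ResidueField⁄ℤ]) : ℕ) := by
  revert iK
  let d : Algebra ℤ M.ResidueField := inferInstance
  intro iK hfin
  obtain rfl : iK = d := Subsingleton.elim _ _
  exact rank_fibre_le ℤ M y hy hgen

/-- Finite field extensions preserve the dimension of absolute differentials. -/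
theorem finrank_kaehler_finite_ext (K L : Type u) [Field K] [Field L] [Algebra K L] [Module.Finite K L]
    [Module.Finite K (Ω[K⁄ℤ])] :
    Module.Finite L (Ω[L⁄ℤ]) ∧ Module.finrank L (Ω[L⁄ℤ]) = Module.finrank K (Ω[K⁄ℤ]) := by
  obtain ⟨hΩfin, hΥfin, hindex⟩ := S2469.result (K := K) (L := L)
  haveI := hΩfin
  haveI : Algebra.IsAlgebraic K L := Algebra.IsAlgebraic.of_finite K L
  rw [trdeg_eq_zero, map_zero, Nat.cast_zero, sub_eq_zero, Nat.cast_inj] at hindex
  let mbc := KaehlerDifferential.mapBaseChange ℤ K L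
  let π := KaehlerDifferential.map ℤ K L L
  haveI hf : Module.Finite L (Ω[L⁄ℤ]) := Module.Finite.of_exact (f := mbc) (g := π)
    (KaehlerDifferential.exact_mapBaseChange_map ℤ K L) (KaehlerDifferential.map_surjective ℤ K L)
  refine ⟨hf, ?_⟩
  have e1 := LinearMap.finrank_range_add_finrank_ker (K := L) π
  rw [LinearMap.range_eq_top.mpr (KaehlerDifferential.map_surjective ℤ K L), finrank_top,
    (KaehlerDifferential.exact_mapBaseChange_map ℤ K L).linearMap_ker_eq] at e1
  have e2 := LinearMap.finrank_range_add_finrank_ker (K := L) (V := L ⊗[K] Ω[K⁄ℤ]) mbc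
  have f0 : Module.finrank L (L ⊗[K] Ω[K⁄ℤ]) = Module.finrank K (Ω[K⁄ℤ]) := Module.finrank_baseChange
  have f1 : Module.finrank L (Ω[L⁄K]) + Module.finrank L (LinearMap.range mbc) = Module.finrank L (Ω[L⁄ℤ]) := e1
  have f2 : Module.finrank L (LinearMap.range mbc) + Module.finrank L (LinearMap.ker mbc) =
      Module.finrank L (L ⊗[K] Ω[K⁄ℤ]) := e2
  have f3 : Module.finrank L (Ω[L⁄K]) = Module.finrank L (LinearMap.ker mbc) := hindex
  clear e1 e2 hindex
  omega

end Groth.Agent.EGA418Dim
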