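/-
The completed module of differentials of a complete Noetherian local algebra over a field.
-/
import Mathlib
import Groth.Agent.S4558
import Groth.Agent.AdicLim.Noetherian
import Groth.Agent.ArtKit.PSRing
import Groth.Agent.ArtPow.Basic

set_option autoImplicit false
universe u

namespace Groth.Agent.EGA418Dim

open IsLocalRing TensorProduct

section

variable (k A : Type u) [Field k] [CommRing A] [IsLocalRing A] [IsNoetherianRing A] [Algebra k A]

/-- The completed module of differentials. -/
abbrev OmegaHat : Type u := AdicCompletion (maximalIdeal A) (Ω[A⁄k])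

/-- The completed universal derivation. -/
noncomputable abbrev dHat : Derivation k A (OmegaHat k A) :=
  (AdicCompletion.of (maximalIdeal A) (Ω[A⁄k])).compDer (KaehlerDifferential.D k A)

variable [IsAdicComplete (maximalIdeal A) A] [Module.Finite (ResidueField A) (Ω[ResidueField A⁄k])]

theorem finite_omegaHat : Module.Finite A (OmegaHat k A) := by
  haveI : Module.Finite (A ⧸ maximalIdeal A) (Ω[A ⧸ maximalIdeal A⁄k]) :=
    ‹Module.Finite (ResidueField A) (Ω[ResidueField A⁄k])›
  haveI : Module.Finite A (maximalIdeal A).Cotangent :=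
    Module.Finite.of_surjective (maximalIdeal A).toCotangent (maximalIdeal A).toCotangent_surjective
  haveI : Module.Finite (A ⧸ maximalIdeal A) (maximalIdeal A).Cotangent :=
    Module.Finite.of_restrictScalars_finite A _ _
  exact S4558.result (A := k) (maximalIdeal A)

theorem of_surjective_omega : Function.Surjective (AdicCompletion.of (maximalIdeal A) (Ω[A⁄k])) := by
  haveI := finite_omegaHat k A
  rw [← LinearMap.range_eq_top]
  refine Submodule.le_of_le_smul_of_le_jacobson_bot (I := maximalIdeal A) (Module.Finite.fg_top)
    (maximalIdeal_le_jacobson _) (fun x _ => ?_) |>.antisymm' le_top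
  obtain ⟨y, hy⟩ := Submodule.Quotient.mk_surjective _ (x.val 1)
  refine Submodule.mem_sup.mpr ⟨AdicCompletion.of (maximalIdeal A) _ y, LinearMap.mem_range_self _ y,
    x - AdicCompletion.of (maximalIdeal A) _ y, ?_, add_sub_cancel _ _⟩
  have h : x - AdicCompletion.of (maximalIdeal A) _ y ∈
      LinearMap.ker (AdicCompletion.eval (maximalIdeal A) (Ω[A⁄k]) 1) := by
    rw [LinearMap.mem_ker, map_sub, sub_eq_zero, AdicCompletion.eval_of]
    exact hy.symm
  rwa [← AdicCompletion.pow_smul_top_eq_ker_eval (IsNoetherian.noetherian _), pow_one] at h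

theorem span_dHat : Submodule.span A (Set.range (dHat k A)) = ⊤ := by
  have h := congrArg (Submodule.map (AdicCompletion.of (maximalIdeal A) (Ω[A⁄k])))
    (KaehlerDifferential.span_range_derivation k A)
  rw [Submodule.map_span, Submodule.map_top, LinearMap.range_eq_top.mpr (of_surjective_omega k A),
    ← Set.range_comp] at h
  exact h

/-- Derivations into finite modules factor through the completed module of differentials. -/
theorem exists_lift {M : Type u} [AddCommGroup M] [Module A M] [Module k M] [IsScalarTower k A M]
    [Module.Finite A M] (δ : Derivation k A M) :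
    ∃ g : OmegaHat k A →ₗ[A] M, ∀ a, g (dHat k A a) = δ a := by
  haveI : IsAdicComplete (maximalIdeal A) M := AdicLim.isAdicComplete_of_finite _ M
  refine ⟨(AdicCompletion.ofLinearEquiv (maximalIdeal A) M).symm.toLinearMap ∘ₗ
    ((AdicCompletion.map (maximalIdeal A) δ.liftKaehlerDifferential).restrictScalars A), fun a => ?_⟩
  show (AdicCompletion.ofLinearEquiv (maximalIdeal A) M).symm
    (AdicCompletion.map (maximalIdeal A) δ.liftKaehlerDifferential
      (AdicCompletion.of (maximalIdeal A) _ (KaehlerDifferential.D k A a))) = δ a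
  rw [AdicCompletion.map_of, Derivation.liftKaehlerDifferential_comp_D,
    AdicCompletion.ofLinearEquiv_symm_of]

theorem hom_ext {M : Type u} [AddCommGroup M] [Module A M] {f g : OmegaHat k A →ₗ[A] M}
    (h : ∀ a, f (dHat k A a) = g (dHat k A a)) : f = g :=
  LinearMap.ext_on_range (span_dHat k A) h

/-- The first exact sequence for a finite algebra structure `R → A`. -/
theorem exists_to_relative (R : Type u) [CommRing R] [Algebra k R] [Algebra R A] [IsScalarTower k R A]
    [Module.Finite R A] :
    ∃ g : OmegaHat k A →ₗ[A] Ω[A⁄R], (∀ a, g (dHat k A a) = KaehlerDifferential.D R A a) ∧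
      Function.Surjective g ∧
      LinearMap.ker g = Submodule.span A (dHat k A '' Set.range (algebraMap R A)) := by
  obtain ⟨g, hg⟩ := exists_lift k A ((KaehlerDifferential.D R A).restrictScalars k)
  have hg' : ∀ a, g (dHat k A a) = KaehlerDifferential.D R A a := hg
  refine ⟨g, hg', ?_, ?_⟩
  · rw [← LinearMap.range_eq_top, eq_top_iff, ← KaehlerDifferential.span_range_derivation R A]
    refine Submodule.span_le.mpr ?_
    rintro _ ⟨a, rfl⟩
    exact ⟨_, hg' a⟩
  · set S := Submodule.span A (dHat k A '' Set.range (algebraMap R A))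
    refine le_antisymm (fun x hx => ?_) (Submodule.span_le.mpr ?_)
    · 
      let δ0 : Derivation k A (OmegaHat k A ⧸ S) := S.mkQ.compDer (dHat k A)
      have hkill : ∀ r : R, δ0 (algebraMap R A r) = 0 := fun r =>
        (Submodule.Quotient.mk_eq_zero S).mpr (Submodule.subset_span ⟨_, ⟨r, rfl⟩, rfl⟩)
      let δ : Derivation R A (OmegaHat k A ⧸ S) := Derivation.mk'
        { toFun := δ0
          map_add' := map_add δ0
          map_smul' := fun r a => by
            rw [RingHom.id_apply, Algebra.smul_def, Derivation.leibniz, hkill, smul_zero, add_zero,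
              algebraMap_smul] }
        fun a b => δ0.leibniz a b
      have h : δ.liftKaehlerDifferential ∘ₗ g = S.mkQ := hom_ext k A fun a => by
        rw [LinearMap.comp_apply, hg', Derivation.liftKaehlerDifferential_comp_D]
        rfl
      rw [← Submodule.Quotient.mk_eq_zero S, ← Submodule.mkQ_apply, ← h, LinearMap.comp_apply,
        LinearMap.mem_ker.mp hx, map_zero]
    · rintro _ ⟨_, ⟨r, rfl⟩, rfl⟩
      rw [SetLike.mem_coe, LinearMap.mem_ker, hg', Derivation.map_algebraMap]

/-- Differentials of power series are combinations of the differentials of the variables. -/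
theorem dHat_powerSeries_mem {n : ℕ} (w : MvPowerSeries (Fin n) k →ₐ[k] A)
    (hw : ∀ i, w (MvPowerSeries.X i) ∈ maximalIdeal A) (f : MvPowerSeries (Fin n) k) :
    dHat k A (w f) ∈ Submodule.span A (Set.range fun i => dHat k A (w (MvPowerSeries.X i))) := by
  classical
  haveI := finite_omegaHat k A
  set S := Submodule.span A (Set.range fun i => dHat k A (w (MvPowerSeries.X i)))
  let δ : Derivation k A (OmegaHat k A ⧸ S) := S.mkQ.compDer (dHat k A)
  suffices δ (w f) = 0 from (Submodule.Quotient.mk_eq_zero S).mp this
  haveI : IsHausdorff (maximalIdeal A) (OmegaHat k A ⧸ S) := inferInstance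
  have hX : ∀ i, δ (w (MvPowerSeries.X i)) = 0 := fun i =>
    (Submodule.Quotient.mk_eq_zero S).mpr (Submodule.subset_span ⟨i, rfl⟩)
  refine IsHausdorff.haus' (I := maximalIdeal A) _ fun N => ?_
  rw [SModEq.sub_mem, sub_zero]
  induction N generalizing f with
  | zero => rw [pow_zero, Ideal.one_eq_top, Submodule.top_smul]; exact Submodule.mem_top
  | succ N ih =>
    obtain ⟨c, hc⟩ := Ideal.mem_span_range_iff_exists_fun.mp (ArtPow.sub_C_constantCoeff_mem f)
    rw [← sub_add_cancel f (MvPowerSeries.C (MvPowerSeries.constantCoeff f)), ← hc, map_add, map_add,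
      show w (MvPowerSeries.C (MvPowerSeries.constantCoeff f)) = algebraMap k A (MvPowerSeries.constantCoeff f) from
        w.commutes _, Derivation.map_algebraMap, add_zero, map_sum, map_sum]
    refine sum_mem fun i _ => ?_
    rw [map_mul, Derivation.leibniz, hX, smul_zero, zero_add, pow_succ', Submodule.mul_smul]
    exact Submodule.smul_mem_smul (hw i) (ih _)

end

end Groth.Agent.EGA418Dim
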