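/-
Fibres of the completed differentials in characteristic zero.
-/
import Mathlib
import Groth.Agent.EGA418Dim.FibreBound
import Groth.Agent.EGA418Dim.Omega
import Groth.Agent.EGA418Dim.Noether
import Groth.Agent.EGA41FS.LiftUnique

set_option autoImplicit false
universe u

namespace Groth.Agent.EGA418Dim

open IsLocalRing TensorProduct

/-- Derivations killing a prime extend to its residue field. -/
theorem exists_residue_derivation {R0 : Type*} {S : Type u} [CommRing R0] [CommRing S] [Algebra R0 S] (M : Ideal S) [M.IsPrime]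
    {E : Type u} [AddCommGroup E] [Module M.ResidueField E] [Module S E] [IsScalarTower S M.ResidueField E]
    [Module R0 E] [IsScalarTower R0 S E] [IsScalarTower R0 M.ResidueField E]
    (d : Derivation R0 S E) (hd : ∀ a ∈ M, d a = 0) :
    ∃ δ : Derivation R0 M.ResidueField E, ∀ a, δ (algebraMap S M.ResidueField a) = d a := by
  classical
  let κ := M.ResidueField
  let C := S ⧸ M
  letI : Module C E := Module.compHom E (algebraMap C κ)
  haveI : IsScalarTower C κ E := IsScalarTower.of_algebraMap_smul fun x v => rfl
  haveI : IsScalarTower R0 C κ := IsScalarTower.of_algebraMap_eq fun r => by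
    rw [IsScalarTower.algebraMap_apply R0 S κ, IsScalarTower.algebraMap_apply R0 S C,
      ← IsScalarTower.algebraMap_apply S C κ]
  haveI : IsScalarTower R0 C E := IsScalarTower.of_algebraMap_smul fun r v => by
    rw [← algebraMap_smul κ (algebraMap R0 C r) v, ← IsScalarTower.algebraMap_apply, algebraMap_smul]
  let dC : C → E := fun x => Quotient.liftOn' x d fun a b hab => by
    have hm : a - b ∈ M := Submodule.quotientRel_def M |>.mp hab
    rw [← sub_add_cancel a b, map_add, hd _ hm, zero_add]
  have hdC : ∀ a, dC (Ideal.Quotient.mk M a) = d a := fun a => rfl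
  let δC : Derivation R0 C E := Derivation.mk'
    { toFun := dC
      map_add' := fun x z => by
        obtain ⟨a, rfl⟩ := Ideal.Quotient.mk_surjective x
        obtain ⟨b, rfl⟩ := Ideal.Quotient.mk_surjective z
        rw [← map_add, hdC, hdC, hdC, map_add]
      map_smul' := fun r x => by
        obtain ⟨a, rfl⟩ := Ideal.Quotient.mk_surjective x
        rw [RingHom.id_apply, show r • Ideal.Quotient.mk M a = Ideal.Quotient.mk M (r • a) from rfl, hdC, hdC,
          d.map_smul] }
    fun x z => by
      obtain ⟨a, rfl⟩ := Ideal.Quotient.mk_surjective x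
      obtain ⟨b, rfl⟩ := Ideal.Quotient.mk_surjective z
      simp only [LinearMap.coe_mk, AddHom.coe_mk]
      rw [← map_mul, hdC, hdC, hdC, d.leibniz, ← algebraMap_smul κ a, ← algebraMap_smul κ b,
        ← algebraMap_smul κ (Ideal.Quotient.mk M a), ← algebraMap_smul κ (Ideal.Quotient.mk M b)]
      rfl
  haveI : Algebra.FormallyEtale C κ := Algebra.FormallyEtale.of_isLocalization (nonZeroDivisors C)
  refine ⟨((δC.liftKaehlerDifferential.liftBaseChange κ) ∘ₗ
    (KaehlerDifferential.tensorKaehlerEquivOfFormallyEtale R0 C κ).symm.toLinearMap).compDer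
      (KaehlerDifferential.D R0 κ), fun a => ?_⟩
  have h1 : KaehlerDifferential.D R0 κ (algebraMap S κ a) =
      KaehlerDifferential.tensorKaehlerEquivOfFormallyEtale R0 C κ
        ((1 : κ) ⊗ₜ[C] KaehlerDifferential.D R0 C (Ideal.Quotient.mk M a)) := by
    show _ = KaehlerDifferential.mapBaseChange R0 C κ ((1 : κ) ⊗ₜ[C] KaehlerDifferential.D R0 C (Ideal.Quotient.mk M a))
    rw [KaehlerDifferential.mapBaseChange_tmul, one_smul, KaehlerDifferential.map_D,
      IsScalarTower.algebraMap_apply S C κ]
    rfl
  show (δC.liftKaehlerDifferential.liftBaseChange κ)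
    ((KaehlerDifferential.tensorKaehlerEquivOfFormallyEtale R0 C κ).symm
      (KaehlerDifferential.D R0 κ (algebraMap S κ a))) = _
  rw [h1, LinearEquiv.symm_apply_apply, LinearMap.liftBaseChange_tmul, one_smul,
    Derivation.liftKaehlerDifferential_comp_D]
  exact hdC a

/-- In characteristic zero a derivation of a field killing a subset over which it is algebraic vanishes. -/
theorem derivation_eq_zero_of_isAlgebraic {k : Type*} {κ E : Type u} [CommRing k] [Field κ] [CharZero κ] [Algebra k κ]
    [AddCommGroup E] [Module κ E] [Module k E] [IsScalarTower k κ E] (δ : Derivation k κ E)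
    (P : Type u) [CommRing P] [Algebra P κ] (hP : ∀ f, δ (algebraMap P κ f) = 0)
    (x : κ) (hx : IsIntegral P x) : δ x = 0 := by
  let K : Subfield κ :=
    { carrier := {z | δ z = 0}
      add_mem' := fun {a b} ha hb => by
        show δ (a + b) = 0
        rw [map_add, show δ a = 0 from ha, show δ b = 0 from hb, add_zero]
      mul_mem' := fun {a b} ha hb => by
        show δ (a * b) = 0
        rw [Derivation.leibniz, show δ a = 0 from ha, show δ b = 0 from hb, smul_zero, smul_zero, add_zero]
      one_mem' := Derivation.map_one_eq_zero δ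
      zero_mem' := map_zero δ
      neg_mem' := fun {a} ha => by
        show δ (-a) = 0
        rw [map_neg, show δ a = 0 from ha, neg_zero]
      inv_mem' := fun a ha => by
        show δ a⁻¹ = 0
        rw [Derivation.leibniz_inv, show δ a = 0 from ha, smul_zero] }
  let g : P →+* K := (algebraMap P κ).codRestrict K hP
  letI : Algebra P K := g.toAlgebra
  haveI : IsScalarTower P K κ := IsScalarTower.of_algebraMap_eq fun f => rfl
  have hxK : IsIntegral K x := hx.tower_top
  let F := IntermediateField.adjoin K {x}
  haveI : FiniteDimensional K F := IntermediateField.adjoin.finiteDimensional hxK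
  haveI : CharZero K := inferInstance
  haveI : Algebra.IsSeparable K F := inferInstance
  haveI : Algebra.FormallyUnramified K F := Algebra.FormallyUnramified.of_isSeparable K F
  haveI : IsScalarTower K F E := ⟨fun a b v => mul_smul (a : κ) (b : κ) v⟩
  let d : Derivation K F E := Derivation.mk'
    { toFun := fun z => δ (z : κ)
      map_add' := fun a b => map_add δ (a : κ) (b : κ)
      map_smul' := fun c a => by
        show δ ((c : κ) * (a : κ)) = (c : κ) • δ (a : κ)
        rw [Derivation.leibniz, show δ (c : κ) = 0 from c.2, smul_zero, add_zero] }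
    fun a b => δ.leibniz (a : κ) (b : κ)
  have h0 : d ⟨x, IntermediateField.mem_adjoin_simple_self K x⟩ = 0 := by
    rw [← d.liftKaehlerDifferential_comp_D,
      Subsingleton.elim (KaehlerDifferential.D K F _) (0 : Ω[F⁄K]), map_zero]
  exact h0

variable (k A : Type u) [Field k] [CommRing A] [IsLocalRing A] [IsNoetherianRing A] [Algebra k A]
  [IsAdicComplete (maximalIdeal A) A] [Module.Finite k (ResidueField A)] (P : Ideal A) [P.IsPrime]

/-- The fibre of the completed differentials at a regular prime, characteristic zero. -/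
theorem finrank_fibre_le_charZero [CharZero k] [IsRegularLocalRing (Localization.AtPrime P)] (h e : ℕ)
    (hh : ringKrullDim (Localization.AtPrime P) = h) (he : ringKrullDim (A ⧸ P) = e) :
    Module.finrank P.ResidueField (P.ResidueField ⊗[A] OmegaHat k A) ≤ h + e := by
  classical
  haveI : Module.Finite A (OmegaHat k A) := finite_omegaHat k A
  obtain ⟨h', y, hh', hy, hgen⟩ := exists_generators P
  rw [hh, Nat.cast_inj] at hh'
  subst hh'
  let κ := P.ResidueField
  haveI : CharZero κ := charZero_of_injective_algebraMap (algebraMap k κ).injective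
  let C := A ⧸ P
  haveI : IsDomain C := Ideal.Quotient.isDomain P
  haveI : IsLocalRing C := IsLocalRing.of_surjective' (Ideal.Quotient.mk P) Ideal.Quotient.mk_surjective
  haveI : IsAdicComplete (maximalIdeal C) C := EGA41FS.isAdicComplete_quotient P
  haveI : IsLocalHom (Ideal.Quotient.mk P) := IsLocalHom.of_surjective _ Ideal.Quotient.mk_surjective
  haveI : Module.Finite k (ResidueField C) := by
    let fr : ResidueField A →ₐ[k] ResidueField C :=
      { ResidueField.map (Ideal.Quotient.mk P) with
        commutes' := fun c => by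
          rw [IsScalarTower.algebraMap_apply k A (ResidueField A), IsScalarTower.algebraMap_apply k C (ResidueField C)]
          rfl }
    refine Module.Finite.of_surjective fr.toLinearMap fun v => ?_
    obtain ⟨b, rfl⟩ := residue_surjective v
    obtain ⟨a, rfl⟩ := Ideal.Quotient.mk_surjective b
    exact ⟨residue A a, rfl⟩
  obtain ⟨e', w, -, hwloc, hwfin, hdim⟩ := exists_noether (k := k) (A := C)
  rw [he, Nat.cast_inj] at hdim
  subst hdim
  have hwX : ∀ i, w (MvPowerSeries.X i) ∈ maximalIdeal C := fun i => by
    refine (mem_maximalIdeal _).mpr fun hu => ?_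
    haveI := hwloc
    have h1 := isUnit_of_map_unit w.toRingHom _ hu
    rw [MvPowerSeries.isUnit_iff_constantCoeff, MvPowerSeries.constantCoeff_X] at h1
    exact not_isUnit_zero h1
  choose x hx using fun i => Ideal.Quotient.mk_surjective (w (MvPowerSeries.X i))
  have hxm : ∀ i, x i ∈ maximalIdeal A := fun i => by
    refine (mem_maximalIdeal _).mpr fun hu => (mem_maximalIdeal _).mp (hwX i) ?_
    rw [← hx i]; exact hu.map _
  obtain ⟨wA, hwA⟩ := ArtKit.exists_evalAdic (R := k) (maximalIdeal A) x hxm
  have hlift : (Ideal.Quotient.mkₐ k P).comp wA = w :=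
    ArtKit.algHom_ext_adic (maximalIdeal C) (fun i => by
      rw [AlgHom.comp_apply, hwA]; exact hx i) fun i => by
      rw [AlgHom.comp_apply, hwA, Ideal.Quotient.mkₐ_eq_mk, hx]; exact hwX i
  let V := κ ⊗[A] OmegaHat k A
  let v : Fin h' → V := fun j => (1 : κ) ⊗ₜ[A] dHat k A (y j)
  let u : Fin e → V := fun i => (1 : κ) ⊗ₜ[A] dHat k A (x i)
  let W := Submodule.span κ (Set.range v ∪ Set.range u)
  let d : Derivation k A (V ⧸ W) :=
    (((W.mkQ).restrictScalars A) ∘ₗ TensorProduct.mk A κ (OmegaHat k A) 1).compDer (dHat k A)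
  have hd : ∀ a, d a = W.mkQ ((1 : κ) ⊗ₜ[A] dHat k A a) := fun a => rfl
  have hy0 : ∀ j, d (y j) = 0 := fun j =>
    (Submodule.Quotient.mk_eq_zero W).mpr (Submodule.subset_span (Or.inl ⟨j, rfl⟩))
  have hx0 : ∀ i, d (x i) = 0 := fun i =>
    (Submodule.Quotient.mk_eq_zero W).mpr (Submodule.subset_span (Or.inr ⟨i, rfl⟩))
  have hsm : ∀ (a : A) (z : V ⧸ W), a • z = algebraMap A κ a • z := fun a z => (algebraMap_smul κ a z).symm
  have hspan0 : ∀ b ∈ Ideal.span (Set.range y), d b = 0 := fun b hb => by
    obtain ⟨c, rfl⟩ := Ideal.mem_span_range_iff_exists_fun.mp hb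
    rw [map_sum]
    refine Finset.sum_eq_zero fun j _ => ?_
    rw [Derivation.leibniz, hy0, smul_zero, zero_add, hsm, Ideal.algebraMap_residueField_eq_zero.mpr (hy j), zero_smul]
  have hdP : ∀ a ∈ P, d a = 0 := fun a ha => by
    obtain ⟨s, hs, hsa⟩ := hgen a ha
    have h1 := hspan0 _ hsa
    rw [Derivation.leibniz, hsm a, Ideal.algebraMap_residueField_eq_zero.mpr ha, zero_smul, add_zero, hsm] at h1
    exact (smul_eq_zero.mp h1).resolve_left fun h => hs (Ideal.algebraMap_residueField_eq_zero.mp h)
  have hdw : ∀ f, d (wA f) = 0 := fun f => by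
    have h1 := dHat_powerSeries_mem k A wA (fun i => by rw [hwA]; exact hxm i) f
    simp only [hwA] at h1
    rw [hd]
    generalize dHat k A (wA f) = z at h1 ⊢
    induction h1 using Submodule.span_induction with
    | mem z hz => obtain ⟨i, rfl⟩ := hz; exact hx0 i
    | zero => rw [TensorProduct.tmul_zero, map_zero]
    | add a b _ _ ha hb => rw [TensorProduct.tmul_add, map_add, ha, hb, add_zero]
    | smul a b _ hb => rw [TensorProduct.tmul_smul, ← algebraMap_smul κ a, map_smul, hb, smul_zero]
  obtain ⟨δ, hδ⟩ := exists_residue_derivation P d hdP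
  let Q := MvPowerSeries (Fin e) k
  letI : Algebra Q κ := ((algebraMap C κ).comp w.toRingHom).toAlgebra
  letI : Algebra Q C := w.toRingHom.toAlgebra
  haveI : IsScalarTower Q C κ := IsScalarTower.of_algebraMap_eq fun f => rfl
  haveI : Module.Finite Q C := hwfin
  have hd0 : ∀ a, d a = 0 := fun a => by
    rw [← hδ]
    refine derivation_eq_zero_of_isAlgebraic δ Q (fun f => ?_) _ ?_
    · have h1 : algebraMap Q κ f = algebraMap A κ (wA f) := by
        show algebraMap C κ (w f) = _
        rw [← hlift, IsScalarTower.algebraMap_apply A C κ]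
        rfl
      rw [h1, hδ, hdw]
    · rw [IsScalarTower.algebraMap_apply A C κ]
      exact (Algebra.IsIntegral.isIntegral (R := Q) _).map (IsScalarTower.toAlgHom Q C κ)
  have htop : W = ⊤ := by
    refine eq_top_iff.mpr fun z _ => ?_
    have hω : ∀ ω, (1 : κ) ⊗ₜ[A] ω ∈ W := fun ω => by
      have hω : ω ∈ Submodule.span A (Set.range (dHat k A)) := span_dHat k A ▸ Submodule.mem_top
      induction hω using Submodule.span_induction with
      | mem z hz => obtain ⟨a, rfl⟩ := hz; exact (Submodule.Quotient.mk_eq_zero W).mp (hd0 a)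
      | zero => rw [TensorProduct.tmul_zero]; exact zero_mem W
      | add a b _ _ ha hb => rw [TensorProduct.tmul_add]; exact add_mem ha hb
      | smul a b _ hb => rw [TensorProduct.tmul_smul, ← algebraMap_smul κ a]; exact W.smul_mem _ hb
    induction z using TensorProduct.induction_on with
    | zero => exact zero_mem W
    | add a b ha hb => exact add_mem (ha Submodule.mem_top) (hb Submodule.mem_top)
    | tmul c ω =>
      rw [show c ⊗ₜ[A] ω = c • ((1 : κ) ⊗ₜ[A] ω) by rw [TensorProduct.smul_tmul', smul_eq_mul, mul_one]]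
      exact W.smul_mem c (hω ω)
  show Module.finrank κ V ≤ _
  rw [← finrank_top κ V, ← htop]
  show Module.finrank κ (Submodule.span κ (Set.range v ∪ Set.range u)) ≤ _
  rw [← Set.Sum.elim_range]
  exact (finrank_range_le_card _).trans (by simp)

end Groth.Agent.EGA418Dim
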