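/-
The module of imperfection of fraction fields of finite algebras over power series rings.
-/
import Mathlib
import Groth.Prelude.Def_EGA41
import Groth.Agent.S2469
import Groth.Agent.EGA418Dim.Noether
import Groth.Agent.ArtPow.Basic

set_option autoImplicit false
universe u

namespace Groth.Agent.EGA418Dim

open TensorProduct

attribute [local instance 2000] Ring.toIntAlgebra

/-- Derivations of the coefficients act on power series. -/
theorem exists_coeff_derivation {k : Type u} [Field k] (n : ℕ) (d : Derivation ℤ k k) :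
    ∃ D : Derivation ℤ (MvPowerSeries (Fin n) k) (MvPowerSeries (Fin n) k),
      ∀ c, D (MvPowerSeries.C c) = MvPowerSeries.C (d c) := by
  classical
  let l : MvPowerSeries (Fin n) k →ₗ[ℤ] MvPowerSeries (Fin n) k :=
    { toFun := fun f e => d (MvPowerSeries.coeff e f)
      map_add' := fun f g => MvPowerSeries.ext fun e => by
        show d (MvPowerSeries.coeff e (f + g)) = d (MvPowerSeries.coeff e f) + d (MvPowerSeries.coeff e g)
        rw [map_add, map_add]
      map_smul' := fun m f => MvPowerSeries.ext fun e => by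
        show d (MvPowerSeries.coeff e (m • f)) = m • d (MvPowerSeries.coeff e f)
        rw [map_zsmul, map_zsmul] }
  refine ⟨Derivation.mk' l fun f g => MvPowerSeries.ext fun e => ?_, fun c => MvPowerSeries.ext fun e => ?_⟩
  · show d (MvPowerSeries.coeff e (f * g)) = MvPowerSeries.coeff e (f * l g + g * l f)
    rw [mul_comm g (l f), map_add, MvPowerSeries.coeff_mul, MvPowerSeries.coeff_mul, MvPowerSeries.coeff_mul,
      map_sum, ← Finset.sum_add_distrib]
    refine Finset.sum_congr rfl fun x _ => ?_
    rw [Derivation.leibniz, smul_eq_mul, smul_eq_mul, mul_comm (MvPowerSeries.coeff x.2 g)]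
    rfl
  · show d (MvPowerSeries.coeff e (MvPowerSeries.C c)) = MvPowerSeries.coeff e (MvPowerSeries.C (d c))
    rw [MvPowerSeries.coeff_C, MvPowerSeries.coeff_C]
    split_ifs
    · rfl
    · exact map_zero d

variable {k : Type u} [Field k] {n : ℕ} {L0 L : Type u} [Field L0] [Field L]
  [Algebra (MvPowerSeries (Fin n) k) L0] [IsFractionRing (MvPowerSeries (Fin n) k) L0]
  [Algebra (MvPowerSeries (Fin n) k) L] [Algebra L0 L] [IsScalarTower (MvPowerSeries (Fin n) k) L0 L]
  [Algebra k L0] [IsScalarTower k (MvPowerSeries (Fin n) k) L0] [Algebra k L] [IsScalarTower k L0 L]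

/-- Derivations of the power series ring give functionals on the differentials of the fraction field. -/
theorem exists_functional {M : Type u} [AddCommGroup M] [Module L M] [Module (MvPowerSeries (Fin n) k) M]
    [IsScalarTower (MvPowerSeries (Fin n) k) L M] (δ : Derivation ℤ (MvPowerSeries (Fin n) k) M) :
    ∃ φ : L ⊗[L0] Ω[L0⁄ℤ] →ₗ[L] M, ∀ f, φ ((1 : L) ⊗ₜ[L0]
      KaehlerDifferential.D ℤ L0 (algebraMap (MvPowerSeries (Fin n) k) L0 f)) = δ f := by
  let P := MvPowerSeries (Fin n) k
  letI : Module L0 M := Module.compHom M (algebraMap L0 L)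
  haveI : IsScalarTower L0 L M := IsScalarTower.of_algebraMap_smul fun x y => rfl
  haveI : IsScalarTower P L0 M := IsScalarTower.of_algebraMap_smul fun f y => by
    show algebraMap L0 L (algebraMap P L0 f) • y = f • y
    rw [← IsScalarTower.algebraMap_apply, algebraMap_smul]
  haveI : IsScalarTower ℤ P L0 := IsScalarTower.of_algebraMap_eq' (Subsingleton.elim _ _)
  haveI : Algebra.FormallyEtale P L0 := Algebra.FormallyEtale.of_isLocalization (nonZeroDivisors P)
  let l₀ : Ω[L0⁄ℤ] →ₗ[L0] M := (δ.liftKaehlerDifferential.liftBaseChange L0) ∘ₗ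
    (KaehlerDifferential.tensorKaehlerEquivOfFormallyEtale ℤ P L0).symm.toLinearMap
  refine ⟨l₀.liftBaseChange L, fun f => ?_⟩
  have h1 : KaehlerDifferential.D ℤ L0 (algebraMap P L0 f) =
      KaehlerDifferential.tensorKaehlerEquivOfFormallyEtale ℤ P L0 ((1 : L0) ⊗ₜ[P] KaehlerDifferential.D ℤ P f) := by
    show _ = KaehlerDifferential.mapBaseChange ℤ P L0 ((1 : L0) ⊗ₜ[P] KaehlerDifferential.D ℤ P f)
    simp
  rw [LinearMap.liftBaseChange_tmul, one_smul]
  show (δ.liftKaehlerDifferential.liftBaseChange L0)
    ((KaehlerDifferential.tensorKaehlerEquivOfFormallyEtale ℤ P L0).symm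
      (KaehlerDifferential.D ℤ L0 (algebraMap P L0 f))) = _
  rw [h1, LinearEquiv.symm_apply_apply, LinearMap.liftBaseChange_tmul, one_smul,
    Derivation.liftKaehlerDifferential_comp_D]

variable (k L0 L) in
/-- Base change of the absolute differentials of `k`. -/
noncomputable def beta : L ⊗[k] Ω[k⁄ℤ] →ₗ[L] L ⊗[L0] Ω[L0⁄ℤ] :=
  (((TensorProduct.mk L0 L Ω[L0⁄ℤ] 1).restrictScalars k) ∘ₗ KaehlerDifferential.map ℤ ℤ k L0).liftBaseChange L

omit [Algebra (MvPowerSeries (Fin n) k) L0] [IsFractionRing (MvPowerSeries (Fin n) k) L0]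
  [Algebra (MvPowerSeries (Fin n) k) L] [IsScalarTower (MvPowerSeries (Fin n) k) L0 L]
  [IsScalarTower k (MvPowerSeries (Fin n) k) L0] in
theorem beta_tmul_D (x : L) (c : k) :
    beta k L0 L (x ⊗ₜ[k] KaehlerDifferential.D ℤ k c) = x • ((1 : L) ⊗ₜ[L0] KaehlerDifferential.D ℤ L0 (algebraMap k L0 c)) := by
  rw [beta, LinearMap.liftBaseChange_tmul, LinearMap.comp_apply, KaehlerDifferential.map_D]
  rfl

omit [Algebra (MvPowerSeries (Fin n) k) L0] [IsFractionRing (MvPowerSeries (Fin n) k) L0]
  [Algebra (MvPowerSeries (Fin n) k) L] [IsScalarTower (MvPowerSeries (Fin n) k) L0 L]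
  [IsScalarTower k (MvPowerSeries (Fin n) k) L0] in
theorem mapBaseChange_beta (z : L ⊗[k] Ω[k⁄ℤ]) :
    KaehlerDifferential.mapBaseChange ℤ L0 L (beta k L0 L z) = KaehlerDifferential.mapBaseChange ℤ k L z := by
  induction z using TensorProduct.induction_on with
  | zero => simp
  | add x y hx hy => simp [hx, hy]
  | tmul x ω =>
    have hω : ω ∈ Submodule.span k (Set.range (KaehlerDifferential.D ℤ k)) :=
      (KaehlerDifferential.span_range_derivation ℤ k).symm ▸ Submodule.mem_top
    induction hω using Submodule.span_induction generalizing x with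
    | mem v hv =>
      obtain ⟨c, rfl⟩ := hv
      rw [beta_tmul_D, map_smul, KaehlerDifferential.mapBaseChange_tmul, KaehlerDifferential.mapBaseChange_tmul,
        KaehlerDifferential.map_D, KaehlerDifferential.map_D, one_smul, ← IsScalarTower.algebraMap_apply]
    | zero => simp
    | add a b _ _ ha hb => rw [TensorProduct.tmul_add, map_add, map_add, map_add, ha, hb]
    | smul c a _ ha => rw [← TensorProduct.smul_tmul, ha]

include n in
theorem beta_injective : Function.Injective (beta k L0 L) := by
  classical
  let P := MvPowerSeries (Fin n) k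
  let b := Module.Basis.ofVectorSpace k Ω[k⁄ℤ]
  refine (injective_iff_map_eq_zero _).mpr fun z hz => ?_
  refine (TensorProduct.equivFinsuppOfBasisRight b).injective ?_
  rw [map_zero]
  refine Finsupp.ext fun i => ?_
  let d : Derivation ℤ k k := (b.coord i).compDer (KaehlerDifferential.D ℤ k)
  obtain ⟨D, hD⟩ := exists_coeff_derivation n d
  obtain ⟨φ, hφ⟩ := exists_functional (L0 := L0) (L := L) ((Algebra.linearMap P L).compDer D)
  have hC : ∀ c : k, algebraMap k L0 c = algebraMap P L0 (MvPowerSeries.C c) := fun c => by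
    rw [IsScalarTower.algebraMap_apply k P L0, MvPowerSeries.algebraMap_apply]; rfl
  have hCL : ∀ c : k, algebraMap P L (MvPowerSeries.C c) = algebraMap k L c := fun c => by
    rw [IsScalarTower.algebraMap_apply P L0 L, ← hC, ← IsScalarTower.algebraMap_apply]
  have key : φ ∘ₗ beta k L0 L = (((Algebra.linearMap k L) ∘ₗ b.coord i).liftBaseChange L) := by
    refine TensorProduct.AlgebraTensorModule.curry_injective (LinearMap.ext_ring ?_)
    refine LinearMap.ext_on_range (KaehlerDifferential.span_range_derivation ℤ k) fun c => ?_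
    show φ (beta k L0 L ((1 : L) ⊗ₜ[k] KaehlerDifferential.D ℤ k c)) = (1 : L) • algebraMap k L (d c)
    rw [beta_tmul_D, one_smul, one_smul, hC, hφ]
    show algebraMap P L (D (MvPowerSeries.C c)) = _
    rw [hD, hCL]
  have h1 := LinearMap.congr_fun key z
  rw [LinearMap.comp_apply, hz, map_zero] at h1
  rw [Finsupp.zero_apply, h1, TensorProduct.equivFinsuppOfBasisRight_apply]
  generalize z = y
  induction y using TensorProduct.induction_on with
  | zero => simp
  | add x y hx hy => simp [hx, hy]
  | tmul x ω =>
    rw [LinearMap.lTensor_tmul, TensorProduct.rid_tmul, LinearMap.liftBaseChange_tmul]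
    show b.coord i ω • x = x • algebraMap k L (b.coord i ω)
    rw [Algebra.smul_def, smul_eq_mul, mul_comm]

/-- The partial derivatives, as functionals on the differentials of the fraction field. -/
theorem exists_partials : ∃ φ : L ⊗[L0] Ω[L0⁄ℤ] →ₗ[L] (Fin n → L), Function.Surjective φ ∧
    ∀ z, φ (beta k L0 L z) = 0 := by
  classical
  let P := MvPowerSeries (Fin n) k
  let δl : P →ₗ[ℤ] (Fin n → L) :=
    { toFun := fun f i => algebraMap P L (MvPowerSeries.pderiv k i f)
      map_add' := fun f g => funext fun i => by simp only [map_add, Pi.add_apply]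
      map_smul' := fun m f => funext fun i => by simp only [map_zsmul, RingHom.id_apply, Pi.smul_apply] }
  let δ : Derivation ℤ P (Fin n → L) := Derivation.mk' δl fun f g => funext fun i => by
    show algebraMap P L (MvPowerSeries.pderiv k i (f * g)) =
      f • algebraMap P L (MvPowerSeries.pderiv k i g) + g • algebraMap P L (MvPowerSeries.pderiv k i f)
    rw [Derivation.leibniz, smul_eq_mul, smul_eq_mul, map_add, map_mul, map_mul, Algebra.smul_def, Algebra.smul_def]
  obtain ⟨φ, hφ⟩ := exists_functional (L0 := L0) (L := L) δ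
  refine ⟨φ, ?_, fun z => ?_⟩
  · rw [← LinearMap.range_eq_top, eq_top_iff, ← (Pi.basisFun L (Fin n)).span_eq, Submodule.span_le]
    rintro _ ⟨i, rfl⟩
    refine ⟨(1 : L) ⊗ₜ[L0] KaehlerDifferential.D ℤ L0 (algebraMap P L0 (MvPowerSeries.X i)), ?_⟩
    rw [hφ, Pi.basisFun_apply]
    funext j
    show algebraMap P L (MvPowerSeries.pderiv k j (MvPowerSeries.X i)) = Pi.single (M := fun _ => L) i 1 j
    by_cases h : i = j
    · subst h; rw [MvPowerSeries.pderiv_X_self, map_one, Pi.single_eq_same]
    · rw [MvPowerSeries.pderiv_X_of_ne h, map_zero, Pi.single_eq_of_ne (Ne.symm h)]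
  · induction z using TensorProduct.induction_on with
    | zero => simp
    | add x y hx hy => simp [hx, hy]
    | tmul x ω =>
      have hω : ω ∈ Submodule.span k (Set.range (KaehlerDifferential.D ℤ k)) :=
        (KaehlerDifferential.span_range_derivation ℤ k).symm ▸ Submodule.mem_top
      induction hω using Submodule.span_induction generalizing x with
      | mem v hv =>
        obtain ⟨c, rfl⟩ := hv
        rw [beta_tmul_D, map_smul, show algebraMap k L0 c = algebraMap P L0 (MvPowerSeries.C c) by
          rw [IsScalarTower.algebraMap_apply k P L0, MvPowerSeries.algebraMap_apply]; rfl, hφ]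
        refine smul_eq_zero_of_right x (funext fun i => ?_)
        show algebraMap P L (MvPowerSeries.pderiv k i (MvPowerSeries.C c)) = 0
        rw [MvPowerSeries.pderiv_C, map_zero]
      | zero => simp
      | add a b _ _ ha hb => rw [TensorProduct.tmul_add, map_add, map_add, ha, hb, add_zero]
      | smul c a _ ha => rw [← TensorProduct.smul_tmul, ha]

end Groth.Agent.EGA418Dim
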