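/-
Rank of differentials against the module of imperfection.
-/
import Mathlib
import Groth.Agent.EGA418Dim.Imperfection

set_option autoImplicit false
universe u

namespace Groth.Agent.EGA418Dim

open TensorProduct

/-- Fraction fields of finite extensions of power series rings. -/
theorem exists_fractionField_setup {k C L : Type u} [Field k] [CommRing C] [IsDomain C] [IsLocalRing C] [IsNoetherianRing C]
    [IsAdicComplete (IsLocalRing.maximalIdeal C) C] [Algebra k C] [Module.Finite k (IsLocalRing.ResidueField C)]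
    [Field L] [Algebra C L] [IsFractionRing C L] [Algebra k L] [IsScalarTower k C L] (n : ℕ) (hn : ringKrullDim C = n) :
    ∃ (L0 : Type u) (_ : Field L0) (_ : Algebra (MvPowerSeries (Fin n) k) L0)
      (_ : IsFractionRing (MvPowerSeries (Fin n) k) L0) (_ : Algebra (MvPowerSeries (Fin n) k) L) (_ : Algebra L0 L)
      (_ : IsScalarTower (MvPowerSeries (Fin n) k) L0 L) (_ : Algebra k L0)
      (_ : IsScalarTower k (MvPowerSeries (Fin n) k) L0) (_ : IsScalarTower k L0 L), Module.Finite L0 L := by
  classical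
  obtain ⟨r, w, hinj, -, hfin, hdim⟩ := exists_noether (k := k) (A := C)
  obtain rfl : r = n := by
    rw [hn] at hdim
    exact_mod_cast hdim.symm
  let P := MvPowerSeries (Fin r) k
  haveI : IsDomain P := NoZeroDivisors.to_isDomain _
  obtain ⟨L0, iLf, iLa, iLfr⟩ : ∃ (L0 : Type u) (_ : Field L0) (_ : Algebra P L0), IsFractionRing P L0 :=
    ⟨FractionRing P, inferInstance, inferInstance, inferInstance⟩
  letI aPB : Algebra P C := w.toRingHom.toAlgebra
  haveI : Module.Finite P C := hfin
  letI aPL : Algebra P L := ((algebraMap C L).comp (algebraMap P C)).toAlgebra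
  haveI : IsScalarTower P C L := IsScalarTower.of_algebraMap_eq fun f => rfl
  haveI : FaithfulSMul P L := (faithfulSMul_iff_algebraMap_injective P L).mpr
    ((IsFractionRing.injective C L).comp hinj)
  letI aLL : Algebra L0 L := (IsFractionRing.lift (A := P) (g := algebraMap P L) (FaithfulSMul.algebraMap_injective P L) : L0 →+* L).toAlgebra
  haveI : IsScalarTower P L0 L := IsScalarTower.of_algebraMap_eq fun f =>
    (IsFractionRing.lift_algebraMap (FaithfulSMul.algebraMap_injective P L) f).symm
  letI akL : Algebra k L0 := ((algebraMap P L0).comp (algebraMap k P)).toAlgebra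
  haveI : IsScalarTower k P L0 := IsScalarTower.of_algebraMap_eq fun c => rfl
  haveI : IsScalarTower k L0 L := IsScalarTower.of_algebraMap_eq fun c => by
    show _ = algebraMap L0 L (algebraMap P L0 (algebraMap k P c))
    rw [← IsScalarTower.algebraMap_apply P L0 L, IsScalarTower.algebraMap_apply P C L,
      IsScalarTower.algebraMap_apply k C L]
    exact congrArg _ (w.commutes c).symm
  refine ⟨L0, iLf, iLa, iLfr, aPL, aLL, inferInstance, akL, inferInstance, inferInstance, ?_⟩
  obtain ⟨g, hg⟩ := (Module.Finite.fg_top : (⊤ : Submodule P C).FG)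
  let S : Subalgebra L0 L := Algebra.adjoin L0 (algebraMap C L '' (g : Set C))
  have hint : ∀ x ∈ algebraMap C L '' (g : Set C), IsIntegral L0 x := by
    rintro _ ⟨b, -, rfl⟩
    exact ((Algebra.IsIntegral.isIntegral (R := P) b).map (IsScalarTower.toAlgHom P C L)).tower_top
  haveI hS : Module.Finite L0 S :=
    Module.Finite.iff_fg.mpr (fg_adjoin_of_finite (g.finite_toSet.image _) hint)
  have hB : ∀ b : C, algebraMap C L b ∈ S := fun b => by
    have hb : b ∈ Submodule.span P (g : Set C) := hg ▸ Submodule.mem_top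
    induction hb using Submodule.span_induction with
    | mem x hx => exact Algebra.subset_adjoin ⟨x, hx, rfl⟩
    | zero => rw [map_zero]; exact zero_mem S
    | add x y _ _ hx hy => rw [map_add]; exact add_mem hx hy
    | smul f x _ hx =>
      rw [Algebra.smul_def, map_mul, ← IsScalarTower.algebraMap_apply, IsScalarTower.algebraMap_apply P L0 L]
      exact mul_mem (S.algebraMap_mem _) hx
  haveI : Algebra.IsIntegral L0 S := Algebra.IsIntegral.of_finite L0 S
  have hfield : IsField S := isField_of_isIntegral_of_isField' (R := L0) (Field.toIsField L0)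
  have htop : ∀ x : L, x ∈ S := fun x => by
    obtain ⟨a, b, hb, rfl⟩ := IsFractionRing.div_surjective (A := C) x
    have hb0 : (⟨algebraMap C L b, hB b⟩ : S) ≠ 0 := fun h =>
      nonZeroDivisors.ne_zero hb (IsFractionRing.injective C L ((congrArg Subtype.val h).trans (map_zero _).symm))
    obtain ⟨c, hc⟩ := hfield.mul_inv_cancel hb0
    have hc' : algebraMap C L b * (c : L) = 1 := congrArg Subtype.val hc
    rw [div_eq_mul_inv, ← eq_inv_of_mul_eq_one_right hc']
    exact mul_mem (hB a) c.2
  exact Module.Finite.of_surjective S.val.toLinearMap fun x => ⟨⟨x, htop x⟩, rfl⟩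

variable {k : Type u} [Field k] {n : ℕ} {L0 L : Type u} [Field L0] [Field L]
  [Algebra (MvPowerSeries (Fin n) k) L0] [IsFractionRing (MvPowerSeries (Fin n) k) L0]
  [Algebra (MvPowerSeries (Fin n) k) L] [Algebra L0 L] [IsScalarTower (MvPowerSeries (Fin n) k) L0 L]
  [Algebra k L0] [IsScalarTower k (MvPowerSeries (Fin n) k) L0] [Algebra k L] [IsScalarTower k L0 L]
  [Module.Finite L0 L]

attribute [local instance 2000] Ring.toIntAlgebra

include n L0 in
theorem finite_imperfection :
    Module.Finite L (LinearMap.ker (KaehlerDifferential.mapBaseChange ℤ k L)) := by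
  obtain ⟨-, hfin, -⟩ := S2469.result (K := L0) (L := L)
  haveI := hfin
  haveI : IsNoetherian L (EGA41.imperfection ℤ L0 L) := isNoetherian_of_isNoetherianRing_of_finite L ↥(EGA41.imperfection ℤ L0 L)
  let f : LinearMap.ker (KaehlerDifferential.mapBaseChange ℤ k L) →ₗ[L] EGA41.imperfection ℤ L0 L :=
    (beta k L0 L).restrict fun z hz => by
      show KaehlerDifferential.mapBaseChange ℤ L0 L (beta k L0 L z) = 0
      rw [mapBaseChange_beta]
      exact hz
  exact Module.Finite.of_injective f fun a b h =>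
    Subtype.ext (beta_injective (n := n) (L0 := L0) (congrArg Subtype.val h))

include n L0 in
theorem le_rank_kaehler :
    (n : Cardinal.{u}) + Module.rank L (LinearMap.ker (KaehlerDifferential.mapBaseChange ℤ k L)) ≤
      Module.rank L (Ω[L⁄k]) := by
  haveI := finite_imperfection (k := k) (n := n) (L0 := L0) (L := L)
  obtain ⟨hΩfin, hΥfin, hindex⟩ := S2469.result (K := L0) (L := L)
  haveI := hΩfin
  haveI : Module.Finite L (EGA41.imperfection ℤ L0 L) := hΥfin
  haveI : IsNoetherian L (EGA41.imperfection ℤ L0 L) := isNoetherian_of_isNoetherianRing_of_finite L ↥(EGA41.imperfection ℤ L0 L)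
  haveI : Algebra.IsAlgebraic L0 L := Algebra.IsAlgebraic.of_finite L0 L
  rw [trdeg_eq_zero, map_zero, Nat.cast_zero, sub_eq_zero, Nat.cast_inj] at hindex
  obtain ⟨φ, hφs, hφβ⟩ := exists_partials (k := k) (n := n) (L0 := L0) (L := L)
  let mbc := KaehlerDifferential.mapBaseChange ℤ L0 L
  let Υ0 := EGA41.imperfection ℤ L0 L
  let Υ := LinearMap.ker (KaehlerDifferential.mapBaseChange ℤ k L)
  let W := Υ0.map φ
  let Q := (Fin n → L) ⧸ W
  let g₀ : (L ⊗[L0] Ω[L0⁄ℤ]) ⧸ LinearMap.ker mbc →ₗ[L] Q := (LinearMap.ker mbc).liftQ (W.mkQ ∘ₗ φ) fun z hz =>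
    (Submodule.Quotient.mk_eq_zero W).mpr ⟨z, hz, rfl⟩
  obtain ⟨l, hl⟩ := LinearMap.exists_extend (g₀ ∘ₗ mbc.quotKerEquivRange.symm.toLinearMap)
  have hlm : ∀ z, l (mbc z) = W.mkQ (φ z) := fun z => by
    have h1 := LinearMap.congr_fun hl ⟨mbc z, LinearMap.mem_range_self mbc z⟩
    have h2 : mbc.quotKerEquivRange.symm ⟨mbc z, LinearMap.mem_range_self mbc z⟩ = Submodule.Quotient.mk z := by
      rw [LinearEquiv.symm_apply_eq]; rfl
    rw [LinearMap.comp_apply, LinearMap.comp_apply, LinearEquiv.coe_coe, h2] at h1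
    exact h1
  let Λ : Ω[L⁄ℤ] →ₗ[L] Q × Ω[L⁄L0] := l.prod (KaehlerDifferential.map ℤ L0 L L)
  have hΛs : Function.Surjective Λ := by
    rintro ⟨q, ω⟩
    obtain ⟨z, rfl⟩ := KaehlerDifferential.map_surjective ℤ L0 L ω
    obtain ⟨v, hv⟩ := W.mkQ_surjective (q - l z)
    obtain ⟨u, rfl⟩ := hφs v
    refine ⟨z + mbc u, Prod.ext ?_ ?_⟩
    · show l (z + mbc u) = q
      rw [map_add, hlm, hv, add_sub_cancel]
    · show KaehlerDifferential.map ℤ L0 L L (z + mbc u) = _
      rw [map_add, (KaehlerDifferential.exact_mapBaseChange_map ℤ L0 L).apply_apply_eq_zero, add_zero]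
  let π := KaehlerDifferential.map ℤ k L L
  have hker : LinearMap.ker π ≤ LinearMap.ker Λ := by
    intro x hx
    obtain ⟨z, rfl⟩ := (KaehlerDifferential.exact_mapBaseChange_map ℤ k L x).mp hx
    rw [LinearMap.mem_ker, ← mapBaseChange_beta (L0 := L0)]
    refine Prod.ext ?_ ((KaehlerDifferential.exact_mapBaseChange_map ℤ L0 L).apply_apply_eq_zero _)
    show l (mbc (beta k L0 L z)) = 0
    rw [hlm, hφβ, map_zero]
  let Λ' : Ω[L⁄k] →ₗ[L] Q × Ω[L⁄L0] := (LinearMap.ker π).liftQ Λ hker ∘ₗ
    (π.quotKerEquivOfSurjective (KaehlerDifferential.map_surjective ℤ k L)).symm.toLinearMap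
  have hΛ' : Function.Surjective Λ' := by
    intro y
    obtain ⟨x, rfl⟩ := hΛs y
    refine ⟨π x, ?_⟩
    have : (π.quotKerEquivOfSurjective (KaehlerDifferential.map_surjective ℤ k L)).symm (π x) = Submodule.Quotient.mk x := by
      rw [LinearEquiv.symm_apply_eq]; rfl
    show (LinearMap.ker π).liftQ Λ hker _ = _
    rw [LinearEquiv.coe_coe, this]
    rfl
  -- the dimension count
  let φ' : Υ0 →ₗ[L] W := φ.submoduleMap Υ0
  have hφ' : Function.Surjective φ' := φ.submoduleMap_surjective Υ0
  let f : Υ →ₗ[L] LinearMap.ker φ' :=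
    LinearMap.codRestrict _ ((beta k L0 L).restrict fun z hz => by
      show KaehlerDifferential.mapBaseChange ℤ L0 L (beta k L0 L z) = 0
      rw [mapBaseChange_beta]
      exact hz) fun z => by
      rw [LinearMap.mem_ker]
      exact Subtype.ext (hφβ _)
  have h1 : Module.finrank L Υ ≤ Module.finrank L (LinearMap.ker φ') :=
    LinearMap.finrank_le_finrank_of_injective (f := f) fun a b h =>
      Subtype.ext (beta_injective (n := n) (L0 := L0) (congrArg (fun t : LinearMap.ker φ' => ((t : Υ0) : L ⊗[L0] Ω[L0⁄ℤ])) h))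
  have h2 := LinearMap.finrank_range_add_finrank_ker (K := L) (V := ↥Υ0) (V₂ := ↥W) φ'
  rw [LinearMap.range_eq_top.mpr hφ', finrank_top] at h2
  have h3 := Submodule.finrank_quotient_add_finrank W
  rw [Module.finrank_fin_fun] at h3
  have h4 : Module.finrank L (Ω[L⁄L0]) = Module.finrank L Υ0 := hindex
  refine le_trans ?_ (LinearMap.rank_le_of_surjective Λ' hΛ')
  rw [← Module.finrank_eq_rank L Υ, ← Module.finrank_eq_rank L (Q × Ω[L⁄L0]), ← Nat.cast_add, Nat.cast_le,
    Module.finrank_prod]
  show n + Module.finrank L Υ ≤ Module.finrank L ((Fin n → L) ⧸ W) + Module.finrank L Ω[L⁄L0]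
  omega

end Groth.Agent.EGA418Dim
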