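/-
Differentials of fraction fields over an F-finite field.
-/
import Mathlib
import Groth.Agent.EGA418Dim.ImperfectionRank
import Groth.Agent.EGA418Dim.FrobFinite

set_option autoImplicit false
universe u v

namespace Groth.Agent.EGA418Dim

open TensorProduct

attribute [local instance 2000] Ring.toIntAlgebra

/-- Differentials are finite when a finite subring is killed. -/
theorem finite_kaehler_of_killed (R : Type v) (S P : Type u) [CommRing R] [CommRing S] [CommRing P] [Algebra R P]
    (f : S →+* P) (h : f.Finite) (hD : ∀ a, KaehlerDifferential.D R P (f a) = 0) : Module.Finite P (Ω[P⁄R]) := by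
  classical
  letI := f.toAlgebra
  haveI : Module.Finite S P := h
  obtain ⟨g, hg⟩ := (Module.Finite.fg_top : (⊤ : Submodule S P).FG)
  refine ⟨Submodule.fg_def.mpr ⟨KaehlerDifferential.D R P '' (g : Set P), g.finite_toSet.image _, ?_⟩⟩
  rw [eq_top_iff, ← KaehlerDifferential.span_range_derivation, Submodule.span_le]
  rintro _ ⟨x, rfl⟩
  have hx : x ∈ Submodule.span S (g : Set P) := hg ▸ Submodule.mem_top
  induction hx using Submodule.span_induction with
  | mem y hy => exact Submodule.subset_span ⟨y, hy, rfl⟩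
  | zero => rw [map_zero]; exact zero_mem _
  | add y z _ _ hy hz => rw [map_add]; exact add_mem hy hz
  | smul c y _ hy =>
    rw [Algebra.smul_def, Derivation.leibniz, show KaehlerDifferential.D R P (algebraMap S P c) = 0 from hD c,
      smul_zero, add_zero]
    exact Submodule.smul_mem _ _ hy

/-- An algebra finite over its Frobenius image has finite differentials. -/
theorem finite_kaehler_of_frobenius (p : ℕ) (R : Type v) (P : Type u) [CommRing R] [CommRing P] [Algebra R P]
    [ExpChar P p] [CharP P p] (h : (frobenius P p).Finite) : Module.Finite P (Ω[P⁄R]) :=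
  finite_kaehler_of_killed R P P (frobenius P p) h fun a => by
    rw [frobenius_def, Derivation.leibniz_pow, ← Nat.cast_smul_eq_nsmul P, CharP.cast_eq_zero P p, zero_smul]

/-- Over an F-finite field the differentials of a power series ring come from the field and the variables. -/
theorem kaehler_powerSeries_span (k : Type u) [Field k] (n : ℕ) [Module.Finite (MvPowerSeries (Fin n) k) (Ω[MvPowerSeries (Fin n) k⁄ℤ])] :
    Submodule.span (MvPowerSeries (Fin n) k) (KaehlerDifferential.D ℤ (MvPowerSeries (Fin n) k) ''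
      (Set.range (MvPowerSeries.C : k →+* MvPowerSeries (Fin n) k) ∪ Set.range MvPowerSeries.X)) = ⊤ := by
  let P := MvPowerSeries (Fin n) k
  haveI : IsNoetherianRing P := inferInstance
  set S := Submodule.span P (KaehlerDifferential.D ℤ P ''
    (Set.range (MvPowerSeries.C : k →+* P) ∪ Set.range MvPowerSeries.X))
  haveI := Cohen.isRegularLocalRing_mvPowerSeries k n
  haveI : IsHausdorff (IsLocalRing.maximalIdeal P) (Ω[P⁄ℤ] ⧸ S) := inferInstance
  rw [eq_top_iff, ← KaehlerDifferential.span_range_derivation, Submodule.span_le]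
  rintro _ ⟨f, rfl⟩
  let δ : Derivation ℤ P (Ω[P⁄ℤ] ⧸ S) := S.mkQ.compDer (KaehlerDifferential.D ℤ P)
  suffices δ f = 0 from (Submodule.Quotient.mk_eq_zero S).mp this
  have hC : ∀ c, δ (MvPowerSeries.C c) = 0 := fun c =>
    (Submodule.Quotient.mk_eq_zero S).mpr (Submodule.subset_span ⟨_, Or.inl ⟨c, rfl⟩, rfl⟩)
  have hX : ∀ i, δ (MvPowerSeries.X i) = 0 := fun i =>
    (Submodule.Quotient.mk_eq_zero S).mpr (Submodule.subset_span ⟨_, Or.inr ⟨i, rfl⟩, rfl⟩)
  refine IsHausdorff.haus' (I := IsLocalRing.maximalIdeal P) _ fun N => ?_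
  rw [SModEq.sub_mem, sub_zero]
  induction N generalizing f with
  | zero => rw [pow_zero, Ideal.one_eq_top, Submodule.top_smul]; exact Submodule.mem_top
  | succ N ih =>
    obtain ⟨c, hc⟩ := Ideal.mem_span_range_iff_exists_fun.mp (ArtPow.sub_C_constantCoeff_mem f)
    rw [← sub_add_cancel f (MvPowerSeries.C (MvPowerSeries.constantCoeff f)), ← hc, map_add, hC, add_zero, map_sum]
    refine sum_mem fun i _ => ?_
    rw [Derivation.leibniz, hX, smul_zero, zero_add, pow_succ', Submodule.mul_smul]
    refine Submodule.smul_mem_smul ?_ (ih _)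
    rw [← ArtPow.span_X_eq_maximalIdeal]
    exact Ideal.subset_span ⟨i, rfl⟩

variable {k : Type u} [Field k] {n : ℕ} {L0 L : Type u} [Field L0] [Field L]
  [Algebra (MvPowerSeries (Fin n) k) L0] [IsFractionRing (MvPowerSeries (Fin n) k) L0]
  [Algebra (MvPowerSeries (Fin n) k) L] [Algebra L0 L] [IsScalarTower (MvPowerSeries (Fin n) k) L0 L]
  [Algebra k L0] [IsScalarTower k (MvPowerSeries (Fin n) k) L0] [Algebra k L] [IsScalarTower k L0 L]
  [Module.Finite L0 L]

include n L0 in
theorem finrank_kaehler_eq [Module.Finite k (Ω[k⁄ℤ])]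
    [Module.Finite (MvPowerSeries (Fin n) k) (Ω[MvPowerSeries (Fin n) k⁄ℤ])] :
    Module.finrank L (Ω[L⁄k]) =
      n + Module.finrank L (LinearMap.ker (KaehlerDifferential.mapBaseChange ℤ k L)) := by
  classical
  let P := MvPowerSeries (Fin n) k
  let V := L ⊗[L0] Ω[L0⁄ℤ]
  let β := beta k L0 L
  let d : P → V := fun f => (1 : L) ⊗ₜ[L0] KaehlerDifferential.D ℤ L0 (algebraMap P L0 f)
  let U : Submodule L V := LinearMap.range β ⊔ Submodule.span L (Set.range fun i => d (MvPowerSeries.X i))
  haveI : IsScalarTower ℤ P L0 := IsScalarTower.of_algebraMap_eq' (Subsingleton.elim _ _)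
  haveI : Algebra.FormallyEtale P L0 := Algebra.FormallyEtale.of_isLocalization (nonZeroDivisors P)
  have hU : U = ⊤ := by
    have hP : ∀ ω : Ω[P⁄ℤ], (1 : L) ⊗ₜ[L0] KaehlerDifferential.mapBaseChange ℤ P L0 ((1 : L0) ⊗ₜ[P] ω) ∈ U := by
      intro ω
      have hω : ω ∈ (⊤ : Submodule P Ω[P⁄ℤ]) := Submodule.mem_top
      rw [← kaehler_powerSeries_span k n] at hω
      induction hω using Submodule.span_induction with
      | mem v hv =>
        obtain ⟨f, hf, rfl⟩ := hv
        rw [KaehlerDifferential.mapBaseChange_tmul, one_smul, KaehlerDifferential.map_D]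
        rcases hf with ⟨c, rfl⟩ | ⟨i, rfl⟩
        · refine Submodule.mem_sup_left ⟨(1 : L) ⊗ₜ[k] KaehlerDifferential.D ℤ k c, ?_⟩
          rw [beta_tmul_D, one_smul, show algebraMap k L0 c = algebraMap P L0 (MvPowerSeries.C c) by
            rw [IsScalarTower.algebraMap_apply k P L0, MvPowerSeries.algebraMap_apply]; rfl]
        · exact Submodule.mem_sup_right (Submodule.subset_span ⟨i, rfl⟩)
      | zero => simp
      | add a b _ _ ha hb => rw [TensorProduct.tmul_add, map_add, TensorProduct.tmul_add]; exact add_mem ha hb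
      | smul f a _ ha =>
        rw [TensorProduct.tmul_smul, ← algebraMap_smul L0 f, map_smul, TensorProduct.tmul_smul,
          ← algebraMap_smul L (algebraMap P L0 f)]
        exact U.smul_mem _ ha
    have hP' : ∀ z, (1 : L) ⊗ₜ[L0] KaehlerDifferential.mapBaseChange ℤ P L0 z ∈ U := by
      intro z
      induction z using TensorProduct.induction_on with
      | zero => simp
      | add a b ha hb => rw [map_add, TensorProduct.tmul_add]; exact add_mem ha hb
      | tmul y w =>
        rw [show y ⊗ₜ[P] w = y • ((1 : L0) ⊗ₜ[P] w) by rw [TensorProduct.smul_tmul', smul_eq_mul, mul_one],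
          map_smul, TensorProduct.tmul_smul, ← algebraMap_smul L y]
        exact U.smul_mem _ (hP w)
    refine eq_top_iff.mpr fun v _ => ?_
    induction v using TensorProduct.induction_on with
    | zero => exact zero_mem U
    | add a b ha hb => exact add_mem (ha Submodule.mem_top) (hb Submodule.mem_top)
    | tmul x ω =>
      rw [show x ⊗ₜ[L0] ω = x • ((1 : L) ⊗ₜ[L0] ω) by rw [TensorProduct.smul_tmul', smul_eq_mul, mul_one]]
      refine U.smul_mem _ ?_
      obtain ⟨z, rfl⟩ := (KaehlerDifferential.tensorKaehlerEquivOfFormallyEtale ℤ P L0).surjective ω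
      show (1 : L) ⊗ₜ[L0] KaehlerDifferential.mapBaseChange ℤ P L0 z ∈ U
      exact hP' z
  let r := Module.finrank L (L ⊗[k] Ω[k⁄ℤ])
  haveI : Module.Finite L V := by
    refine ⟨?_⟩
    rw [← hU]
    exact (LinearMap.range_eq_map β ▸ Module.Finite.fg_top.map β).sup (Submodule.fg_span (Set.finite_range _))
  have hV : Module.finrank L V ≤ r + n := by
    rw [← finrank_top, ← hU]
    refine (Submodule.finrank_add_le_finrank_add_finrank _ _).trans (Nat.add_le_add (LinearMap.finrank_range_le β) ?_)
    exact (finrank_range_le_card _).trans (Fintype.card_fin n).le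
  haveI := finite_imperfection (k := k) (n := n) (L0 := L0) (L := L)
  obtain ⟨hΩfin, hΥfin, hindex⟩ := S2469.result (K := L0) (L := L)
  haveI := hΩfin
  haveI : Algebra.IsAlgebraic L0 L := Algebra.IsAlgebraic.of_finite L0 L
  rw [trdeg_eq_zero, map_zero, Nat.cast_zero, sub_eq_zero, Nat.cast_inj] at hindex
  let mbc := KaehlerDifferential.mapBaseChange ℤ L0 L
  let mbk := KaehlerDifferential.mapBaseChange ℤ k L
  let π0 := KaehlerDifferential.map ℤ L0 L L
  let π := KaehlerDifferential.map ℤ k L L
  haveI : Module.Finite L (Ω[L⁄ℤ]) := Module.Finite.of_exact (f := mbc) (g := π0)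
    (KaehlerDifferential.exact_mapBaseChange_map ℤ L0 L) (KaehlerDifferential.map_surjective ℤ L0 L)
  haveI : Module.Finite L (Ω[L⁄k]) := Module.Finite.of_surjective π (KaehlerDifferential.map_surjective ℤ k L)
  have e1 := LinearMap.finrank_range_add_finrank_ker (K := L) π0
  rw [LinearMap.range_eq_top.mpr (KaehlerDifferential.map_surjective ℤ L0 L), finrank_top,
    (KaehlerDifferential.exact_mapBaseChange_map ℤ L0 L).linearMap_ker_eq] at e1
  have e2 := LinearMap.finrank_range_add_finrank_ker (K := L) (V := V) mbc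
  have e3 := LinearMap.finrank_range_add_finrank_ker (K := L) π
  rw [LinearMap.range_eq_top.mpr (KaehlerDifferential.map_surjective ℤ k L), finrank_top,
    (KaehlerDifferential.exact_mapBaseChange_map ℤ k L).linearMap_ker_eq] at e3
  have e4 := LinearMap.finrank_range_add_finrank_ker (K := L) (V := L ⊗[k] Ω[k⁄ℤ]) mbk
  have hlow := le_rank_kaehler (k := k) (n := n) (L0 := L0) (L := L)
  rw [← Module.finrank_eq_rank L (Ω[L⁄k]), ← Module.finrank_eq_rank L (LinearMap.ker mbk), ← Nat.cast_add, Nat.cast_le] at hlow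
  have h5 : Module.finrank L (Ω[L⁄L0]) = Module.finrank L (LinearMap.ker mbc) := hindex
  have f1 : Module.finrank L (Ω[L⁄L0]) + Module.finrank L (LinearMap.range mbc) = Module.finrank L (Ω[L⁄ℤ]) := e1
  have f2 : Module.finrank L (LinearMap.range mbc) + Module.finrank L (LinearMap.ker mbc) = Module.finrank L V := e2
  have f3 : Module.finrank L (Ω[L⁄k]) + Module.finrank L (LinearMap.range mbk) = Module.finrank L (Ω[L⁄ℤ]) := e3
  have f4 : Module.finrank L (LinearMap.range mbk) + Module.finrank L (LinearMap.ker mbk) = r := e4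
  have f5 : Module.finrank L (Ω[L⁄L0]) = Module.finrank L (LinearMap.ker mbc) := h5
  have f6 : n + Module.finrank L (LinearMap.ker mbk) ≤ Module.finrank L (Ω[L⁄k]) := hlow
  show Module.finrank L (Ω[L⁄k]) = n + Module.finrank L (LinearMap.ker mbk)
  clear e1 e2 e3 e4 h5 hlow
  omega

end Groth.Agent.EGA418Dim
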