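/-
Generators of a localized module.
-/
import Mathlib

set_option autoImplicit false
universe u

namespace Groth.Agent.EGA418Dim

open TensorProduct

variable {A : Type u} [CommRing A] (p : Ideal A) [p.IsPrime] {M : Type u} [AddCommGroup M] [Module A M]
  {ι : Type} (ω : ι → M)

theorem span_localized_eq_top_iff :
    Submodule.span (Localization.AtPrime p) (Set.range fun i => LocalizedModule.mk (ω i) (1 : p.primeCompl)) = ⊤ ↔
      ∀ v : M, ∃ s ∈ p.primeCompl, s • v ∈ Submodule.span A (Set.range ω) := by
  let f := LocalizedModule.mkLinearMap p.primeCompl M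
  have hr : (Set.range fun i => LocalizedModule.mk (ω i) (1 : p.primeCompl)) = f '' Set.range ω := by
    rw [← Set.range_comp]; rfl
  rw [hr, ← Submodule.localized'_span (Localization.AtPrime p) p.primeCompl f, eq_top_iff]
  constructor
  · intro h v
    obtain ⟨m, hm, t, ht⟩ := (Submodule.mem_localized' _ _ _ _ (f v)).mp (h Submodule.mem_top)
    rw [IsLocalizedModule.mk'_eq_iff, show t • f v = f ((t : A) • v) by rw [map_smul]; rfl] at ht
    obtain ⟨c, hc⟩ := IsLocalizedModule.exists_of_eq (S := p.primeCompl) (f := f) ht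
    refine ⟨c * t, (c * t).2, ?_⟩
    rw [Submonoid.smul_def, Submonoid.smul_def] at hc
    rw [mul_smul, ← hc]
    exact Submodule.smul_mem _ _ hm
  · intro h y _
    obtain ⟨⟨v, t⟩, rfl⟩ := IsLocalizedModule.mk'_surjective p.primeCompl f y
    obtain ⟨s, hs, hsv⟩ := h v
    refine (Submodule.mem_localized' _ _ _ _ _).mpr ⟨s • v, hsv, ⟨s, hs⟩ * t, ?_⟩
    exact IsLocalizedModule.mk'_cancel_left f v ⟨s, hs⟩ t

/-- A spanning family of the localization can be cleared of denominators. -/
theorem exists_span_localized (s : ι → LocalizedModule p.primeCompl M)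
    (h : Submodule.span (Localization.AtPrime p) (Set.range s) = ⊤) :
    ∃ ω : ι → M, ∀ v : M, ∃ c ∈ p.primeCompl, c • v ∈ Submodule.span A (Set.range ω) := by
  have hs : ∀ i, ∃ (m : M) (t : p.primeCompl), LocalizedModule.mk m t = s i := fun i => by
    induction s i using LocalizedModule.induction_on with
    | h m t => exact ⟨m, t, rfl⟩
  choose m t hmt using hs
  refine ⟨m, (span_localized_eq_top_iff p m).mp (eq_top_iff.mpr (h ▸ Submodule.span_le.mpr ?_))⟩
  rintro _ ⟨i, rfl⟩
  have : s i = (Localization.mk 1 (t i) : Localization.AtPrime p) • LocalizedModule.mk (m i) (1 : p.primeCompl) := by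
    rw [LocalizedModule.mk_smul_mk, one_smul, mul_one, hmt]
  rw [this]
  exact Submodule.smul_mem _ _ (Submodule.subset_span ⟨i, rfl⟩)

/-- A family generating at `p` spans the fibre at `p`. -/
theorem span_fibre_eq_top (h : ∀ v : M, ∃ s ∈ p.primeCompl, s • v ∈ Submodule.span A (Set.range ω)) :
    Submodule.span p.ResidueField (Set.range fun i => (1 : p.ResidueField) ⊗ₜ[A] ω i) = ⊤ := by
  refine eq_top_iff.mpr fun v _ => ?_
  set W := Submodule.span p.ResidueField (Set.range fun i => (1 : p.ResidueField) ⊗ₜ[A] ω i)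
  have hone : ∀ m : M, m ∈ Submodule.span A (Set.range ω) → (1 : p.ResidueField) ⊗ₜ[A] m ∈ W := fun m hm => by
    induction hm using Submodule.span_induction with
    | mem x hx => obtain ⟨i, rfl⟩ := hx; exact Submodule.subset_span ⟨i, rfl⟩
    | zero => rw [TensorProduct.tmul_zero]; exact zero_mem W
    | add x y _ _ hx hy => rw [TensorProduct.tmul_add]; exact add_mem hx hy
    | smul a x _ hx => rw [TensorProduct.tmul_smul, ← algebraMap_smul p.ResidueField]; exact W.smul_mem _ hx
  induction v using TensorProduct.induction_on with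
  | zero => exact zero_mem W
  | add x y hx hy => exact add_mem (hx Submodule.mem_top) (hy Submodule.mem_top)
  | tmul c m =>
    obtain ⟨s, hs, hsm⟩ := h m
    have hs0 : algebraMap A p.ResidueField s ≠ 0 := fun h0 => hs (Ideal.algebraMap_residueField_eq_zero.mp h0)
    rw [show c ⊗ₜ[A] m = (c * (algebraMap A p.ResidueField s)⁻¹) • ((1 : p.ResidueField) ⊗ₜ[A] (s • m)) by
      rw [TensorProduct.tmul_smul, ← algebraMap_smul p.ResidueField s, smul_smul, mul_assoc, inv_mul_cancel₀ hs0,
        mul_one, TensorProduct.smul_tmul', smul_eq_mul, mul_one]]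
    exact W.smul_mem _ (hone _ hsm)

end Groth.Agent.EGA418Dim
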