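/-
Choice of parameters whose differentials generate the completed differentials at a prime.
-/
import Mathlib
import Groth.Agent.EGA418Dim.Omega

set_option autoImplicit false
universe u

namespace Groth.Agent.EGA418Dim

open IsLocalRing TensorProduct

section

variable (k A : Type u) [Field k] [CommRing A] [IsLocalRing A] [IsNoetherianRing A] [Algebra k A]
variable [IsAdicComplete (maximalIdeal A) A] [Module.Finite (ResidueField A) (Ω[ResidueField A⁄k])]

/-- Unramifiedness of a finite algebra in terms of completed differentials. -/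
theorem isUnramifiedAt_iff (R : Type u) [CommRing R] [Algebra k R] [Algebra R A] [IsScalarTower k R A]
    [Module.Finite R A] (p : Ideal A) [p.IsPrime] :
    Algebra.IsUnramifiedAt R p ↔ ∀ ω : OmegaHat k A, ∃ s ∈ p.primeCompl,
      s • ω ∈ Submodule.span A (dHat k A '' Set.range (algebraMap R A)) := by
  obtain ⟨g, -, hsurj, hker⟩ := exists_to_relative k A R
  have hiso := IsLocalizedModule.iso p.primeCompl (KaehlerDifferential.map R R A (Localization.AtPrime p))
  rw [show Algebra.IsUnramifiedAt R p ↔ Subsingleton (Ω[Localization.AtPrime p⁄R]) from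
    Algebra.formallyUnramified_iff _ _, ← hiso.subsingleton_congr, LocalizedModule.subsingleton_iff]
  constructor
  · intro h ω
    obtain ⟨s, hs, hsω⟩ := h (g ω)
    refine ⟨s, hs, ?_⟩
    rw [← hker, LinearMap.mem_ker, map_smul, hsω]
  · intro h v
    obtain ⟨ω, rfl⟩ := hsurj v
    obtain ⟨s, hs, hsω⟩ := h ω
    refine ⟨s, hs, ?_⟩
    rw [← map_smul, ← LinearMap.mem_ker, hker]
    exact hsω

variable (p : Ideal A) [p.IsPrime]

/-- The image of the differential in the fibre at `p`. -/
noncomputable abbrev dFib (a : A) : p.ResidueField ⊗[A] OmegaHat k A := (1 : p.ResidueField) ⊗ₜ[A] dHat k A a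

theorem dFib_smul (a : A) (ω : OmegaHat k A) :
    ((1 : p.ResidueField) ⊗ₜ[A] (a • ω)) = algebraMap A p.ResidueField a • ((1 : p.ResidueField) ⊗ₜ[A] ω) := by
  rw [TensorProduct.tmul_smul, algebraMap_smul]

theorem dFib_leibniz (a b : A) : dFib k A p (a * b) =
    algebraMap A p.ResidueField a • dFib k A p b + algebraMap A p.ResidueField b • dFib k A p a := by
  rw [dFib, Derivation.leibniz, TensorProduct.tmul_add, dFib_smul, dFib_smul]

/-- The differentials of the elements of the maximal ideal span the fibre at another prime. -/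
theorem exists_dFib_notMem (hpm : p ≠ maximalIdeal A)
    (W : Submodule p.ResidueField (p.ResidueField ⊗[A] OmegaHat k A)) (hW : W ≠ ⊤) :
    ∃ x ∈ maximalIdeal A, dFib k A p x ∉ W := by
  by_contra hne
  push Not at hne
  obtain ⟨t, htm, htp⟩ := Set.not_subset.mp fun h : (maximalIdeal A : Set A) ⊆ p =>
    hpm ((IsLocalRing.le_maximalIdeal (Ideal.IsPrime.ne_top ‹_›)).antisymm h)
  have ht : algebraMap A p.ResidueField t ≠ 0 := fun h => htp (Ideal.algebraMap_residueField_eq_zero.mp h)
  have hall : ∀ a, dFib k A p a ∈ W := fun a => by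
    have h := hne (t * a) (Ideal.mul_mem_right _ _ htm)
    rw [dFib_leibniz, W.add_mem_iff_left (W.smul_mem _ (hne t htm))] at h
    exact (W.smul_mem_iff ht).mp h
  have hω : ∀ ω, (1 : p.ResidueField) ⊗ₜ[A] ω ∈ W := fun ω => by
    have hω : ω ∈ Submodule.span A (Set.range (dHat k A)) := span_dHat k A ▸ Submodule.mem_top
    induction hω using Submodule.span_induction with
    | mem x hx => obtain ⟨a, rfl⟩ := hx; exact hall a
    | zero => rw [TensorProduct.tmul_zero]; exact zero_mem W
    | add x y _ _ hx hy => rw [TensorProduct.tmul_add]; exact add_mem hx hy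
    | smul a x _ hx => rw [dFib_smul]; exact W.smul_mem _ hx
  refine hW (eq_top_iff.mpr fun v _ => ?_)
  induction v using TensorProduct.induction_on with
  | zero => exact zero_mem W
  | add x y hx hy => exact add_mem (hx Submodule.mem_top) (hy Submodule.mem_top)
  | tmul c ω =>
    rw [show c ⊗ₜ[A] ω = c • ((1 : p.ResidueField) ⊗ₜ[A] ω) by rw [TensorProduct.smul_tmul', smul_eq_mul, mul_one]]
    exact W.smul_mem c (hω ω)

/-- One step of the choice: avoid finitely many non-maximal primes and a proper subspace. -/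
theorem exists_avoid (hpm : p ≠ maximalIdeal A) (T : Finset (Ideal A))
    (hT : ∀ Q ∈ T, Q.IsPrime ∧ Q ≠ maximalIdeal A)
    (W : Submodule p.ResidueField (p.ResidueField ⊗[A] OmegaHat k A)) :
    ∃ x ∈ maximalIdeal A, (∀ Q ∈ T, x ∉ Q) ∧ (W ≠ ⊤ → dFib k A p x ∉ W) := by
  classical
  obtain ⟨u, hum, huT⟩ : ∃ u ∈ maximalIdeal A, ∀ Q ∈ T, u ∉ Q := by
    by_contra hne
    push Not at hne
    have hsub : (maximalIdeal A : Set A) ⊆ ⋃ Q ∈ (T : Set (Ideal A)), (Q : Set A) := fun u hu => by
      obtain ⟨Q, hQ, huQ⟩ := hne u hu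
      exact Set.mem_biUnion hQ huQ
    obtain ⟨Q, hQ, hle⟩ := (Ideal.subset_union_prime (s := T) (f := fun Q => Q) ⊥ ⊥
      fun Q hQ _ _ => (hT Q hQ).1).mp hsub
    exact (hT Q hQ).2 ((IsLocalRing.le_maximalIdeal (hT Q hQ).1.ne_top).antisymm hle)
  by_cases hW : W = ⊤
  · exact ⟨u, hum, huT, fun h => absurd hW h⟩
  by_cases hu : dFib k A p u ∈ W
  swap
  · exact ⟨u, hum, huT, fun _ => hu⟩
  obtain ⟨x, hxm, hx⟩ := exists_dFib_notMem k A p hpm W hW
  -- for every prime at most one exponent is bad
  have hsub : ∀ Q ∈ T, {N : ℕ | x + u ^ (N + 1) ∈ Q}.Subsingleton := by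
    intro Q hQ M hM N hN
    haveI := (hT Q hQ).1
    wlog hMN : M ≤ N generalizing M N with H
    · exact (H hN hM (le_of_not_ge hMN)).symm
    by_contra hne
    have hlt : M < N := lt_of_le_of_ne hMN hne
    have hd : u ^ (M + 1) * (1 - u ^ (N - M)) ∈ Q := by
      have h := Q.sub_mem hM hN
      rw [mul_sub, mul_one, ← pow_add, show M + 1 + (N - M) = N + 1 by omega]
      simpa using h
    rcases Ideal.IsPrime.mem_or_mem ‹Q.IsPrime› hd with h | h
    · exact huT Q hQ (Ideal.IsPrime.mem_of_pow_mem ‹Q.IsPrime› _ h)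
    · refine (hT Q hQ).1.ne_top (Ideal.eq_top_of_isUnit_mem _ h ?_)
      refine IsLocalRing.isUnit_one_sub_self_of_mem_nonunits _ ?_
      exact Ideal.pow_mem_of_mem _ hum _ (by omega)
  obtain ⟨N, hN⟩ : ∃ N, N ∉ ⋃ Q ∈ (T : Set (Ideal A)), {N : ℕ | x + u ^ (N + 1) ∈ Q} :=
    (Set.Finite.biUnion T.finite_toSet fun Q hQ => (hsub Q hQ).finite).exists_notMem
  refine ⟨x + u ^ (N + 1), add_mem hxm (Ideal.pow_mem_of_mem _ hum _ (by omega)),
    fun Q hQ h => hN (Set.mem_biUnion hQ h), fun _ h => hx ?_⟩
  have hpow : dFib k A p (u ^ (N + 1)) ∈ W := by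
    rw [dFib, Derivation.leibniz_pow, ← Nat.cast_smul_eq_nsmul A, dFib_smul, dFib_smul]
    exact W.smul_mem _ (W.smul_mem _ hu)
  rw [dFib, map_add, TensorProduct.tmul_add] at h
  exact (W.add_mem_iff_left hpow).mp h

/-- Parameters whose differentials generate the completed differentials at `p`. -/
theorem exists_parameters (hpm : p ≠ maximalIdeal A) (d n : ℕ) (hd : ringKrullDim A = d) (hdn : d ≤ n)
    (hrk : Module.finrank p.ResidueField (p.ResidueField ⊗[A] OmegaHat k A) ≤ n) :
    ∃ x : Fin n → A, (∀ i, x i ∈ maximalIdeal A) ∧ (Ideal.span (Set.range x)).radical = maximalIdeal A ∧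
      ∀ ω : OmegaHat k A, ∃ s ∈ p.primeCompl, s • ω ∈ Submodule.span A (Set.range fun i => dHat k A (x i)) := by
  classical
  haveI := finite_omegaHat k A
  haveI : Module.Finite p.ResidueField (p.ResidueField ⊗[A] OmegaHat k A) := inferInstance
  have key : ∀ i : ℕ, i ≤ n → ∃ x : Fin i → A, (∀ j, x j ∈ maximalIdeal A) ∧
      (∀ Q : PrimeSpectrum A, Ideal.span (Set.range x) ≤ Q.asIdeal → Q.asIdeal ≠ maximalIdeal A →
        Order.coheight Q + i ≤ (d : ℕ∞)) ∧
      (i ≤ Module.finrank p.ResidueField (Submodule.span p.ResidueField (Set.range (dFib k A p ∘ x))) ∨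
        Submodule.span p.ResidueField (Set.range (dFib k A p ∘ x)) = ⊤) := by
    intro i hi
    induction i with
    | zero =>
      refine ⟨Fin.elim0, fun j => j.elim0, fun Q _ _ => ?_, Or.inl (Nat.zero_le _)⟩
      have h := Order.coheight_le_krullDim Q
      rw [show Order.krullDim (PrimeSpectrum A) = (d : WithBot ℕ∞) from hd] at h
      simpa using (by exact_mod_cast h : Order.coheight Q ≤ (d : ℕ∞))
    | succ i ih =>
      obtain ⟨x, hxm, hxdim, hxspan⟩ := ih (Nat.le_of_succ_le hi)
      let I := Ideal.span (Set.range x)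
      let T := (Ideal.finite_minimalPrimes_of_isNoetherianRing A I).toFinset.filter fun Q => Q ≠ maximalIdeal A
      let W := Submodule.span p.ResidueField (Set.range (dFib k A p ∘ x))
      obtain ⟨y, hym, hyT, hyW⟩ := exists_avoid k A p hpm T (fun Q hQ => by
        rw [Finset.mem_filter, Set.Finite.mem_toFinset] at hQ
        exact ⟨hQ.1.1.1, hQ.2⟩) W
      refine ⟨Fin.snoc x y, fun j => ?_, fun Q hQ hQm => ?_, ?_⟩
      · induction j using Fin.lastCases with
        | last => rw [Fin.snoc_last]; exact hym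
        | cast j => rw [Fin.snoc_castSucc]; exact hxm j
      · have hIQ : I ≤ Q.asIdeal := by
          refine Ideal.span_le.mpr ?_
          rintro _ ⟨j, rfl⟩
          exact hQ (Ideal.subset_span ⟨j.castSucc, Fin.snoc_castSucc _ _ _⟩)
        have hyQ : y ∈ Q.asIdeal := hQ (Ideal.subset_span ⟨Fin.last i, Fin.snoc_last _ _⟩)
        obtain ⟨q, hq, hqQ⟩ := Ideal.exists_minimalPrimes_le hIQ
        haveI := hq.1.1
        have hqm : q ≠ maximalIdeal A := fun h =>
          hQm ((IsLocalRing.le_maximalIdeal Q.isPrime.ne_top).antisymm (h ▸ hqQ))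
        have hyq : y ∉ q := hyT q (by
          rw [Finset.mem_filter, Set.Finite.mem_toFinset]
          exact ⟨hq, hqm⟩)
        have hlt : (⟨q, hq.1.1⟩ : PrimeSpectrum A) < Q :=
          lt_of_le_of_ne hqQ fun h => hyq (by
            have := congrArg PrimeSpectrum.asIdeal h
            simp only at this
            rw [this]; exact hyQ)
        have h1 := Order.coheight_add_one_le hlt
        have h2 := hxdim ⟨q, hq.1.1⟩ hq.1.2 hqm
        calc Order.coheight Q + ((i + 1 : ℕ) : ℕ∞) = Order.coheight Q + 1 + i := by push_cast; ring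
          _ ≤ Order.coheight (⟨q, hq.1.1⟩ : PrimeSpectrum A) + i := by gcongr
          _ ≤ d := h2
      · have hrange : Submodule.span p.ResidueField (Set.range (dFib k A p ∘ Fin.snoc x y)) =
            W ⊔ Submodule.span p.ResidueField {dFib k A p y} := by
          rw [← Submodule.span_union, Fin.comp_snoc, Fin.range_snoc, Set.union_singleton]
        rw [hrange]
        by_cases hW : W = ⊤
        · exact Or.inr (by rw [hW, top_sup_eq])
        · refine Or.inl ?_
          have h1 : i ≤ Module.finrank p.ResidueField W := hxspan.resolve_right hW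
          have h2 : W < W ⊔ Submodule.span p.ResidueField {dFib k A p y} :=
            lt_of_le_of_ne le_sup_left fun h => hyW hW (h ▸ Submodule.mem_sup_right (Submodule.mem_span_singleton_self _))
          have h3 := Submodule.finrank_lt_finrank_of_lt h2
          omega
  obtain ⟨x, hxm, hxdim, hxspan⟩ := key n le_rfl
  refine ⟨x, hxm, ?_, ?_⟩
  · rw [Ideal.radical_eq_sInf]
    refine le_antisymm (sInf_le ⟨Ideal.span_le.mpr (by rintro _ ⟨i, rfl⟩; exact hxm i),
      (maximalIdeal.isMaximal A).isPrime⟩) (le_sInf ?_)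
    rintro Q ⟨hQ, hQp⟩
    by_contra hle
    have hQm : Q ≠ maximalIdeal A := fun h => hle h.ge
    have h1 := hxdim ⟨Q, hQp⟩ hQ hQm
    have hlt : (⟨Q, hQp⟩ : PrimeSpectrum A) < closedPoint A :=
      lt_of_le_of_ne (IsLocalRing.le_maximalIdeal hQp.ne_top) fun h => hQm (congrArg PrimeSpectrum.asIdeal h)
    have h2 : (1 : ℕ∞) ≤ Order.coheight (⟨Q, hQp⟩ : PrimeSpectrum A) :=
      le_trans le_add_self (Order.coheight_add_one_le hlt)
    have h3 : ((n + 1 : ℕ) : ℕ∞) ≤ (d : ℕ∞) := by
      refine le_trans ?_ h1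
      push_cast
      rw [add_comm]
      gcongr
    have := ENat.natCast_le_natCast.mp h3
    omega
  · have htop : Submodule.span p.ResidueField (Set.range (dFib k A p ∘ x)) = ⊤ := by
      rcases hxspan with h | h
      · exact Submodule.eq_top_of_finrank_eq (le_antisymm (Submodule.finrank_le _) (hrk.trans h))
      · exact h
    set S := Submodule.span A (Set.range fun i => dHat k A (x i))
    have hsub : Subsingleton (p.ResidueField ⊗[A] (OmegaHat k A ⧸ S)) := by
      have hsurj : Function.Surjective (S.mkQ.baseChange p.ResidueField) :=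
        LinearMap.lTensor_surjective _ S.mkQ_surjective
      have h0 : S.mkQ.baseChange p.ResidueField = 0 := LinearMap.ext_on_range htop fun i => by
        show (1 : p.ResidueField) ⊗ₜ[A] S.mkQ (dHat k A (x i)) = 0
        rw [show S.mkQ (dHat k A (x i)) = 0 from (Submodule.Quotient.mk_eq_zero S).mpr
          (Submodule.subset_span ⟨i, rfl⟩), TensorProduct.tmul_zero]
      refine ⟨fun a b => ?_⟩
      obtain ⟨a, rfl⟩ := hsurj a
      obtain ⟨b, rfl⟩ := hsurj b
      rw [h0]
      rfl
    have hnot : (⟨p, ‹_›⟩ : PrimeSpectrum A) ∉ Module.support A (OmegaHat k A ⧸ S) := by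
      rw [Module.mem_support_iff_nontrivial_residueField_tensorProduct, not_nontrivial_iff_subsingleton]
      exact hsub
    intro ω
    obtain ⟨s, hs, hsω⟩ := Module.notMem_support_iff'.mp hnot (S.mkQ ω)
    exact ⟨s, hs, (Submodule.Quotient.mk_eq_zero S).mp hsω⟩

end

end Groth.Agent.EGA418Dim
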