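/-
Finite algebras over power series rings, etale at a prime: differentials and geometric regularity.
-/
import Mathlib
import Groth.Prelude.Def_Found
import Groth.Agent.EGA418Dim.Omega
import Groth.Agent.EGA418Dim.LocSpan
import Groth.Agent.EGA418Dim.Etale
import Groth.Agent.RegTrans.Basic

set_option autoImplicit false
universe u

namespace Groth.Agent.EGA418Dim

open IsLocalRing TensorProduct

theorem isRegularRing_powerSeries (k : Type u) [Field k] (n : ℕ) : IsRegularRing (MvPowerSeries (Fin n) k) :=
  RegTrans.isRegularRing_mvPowerSeries k n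

/-- Extension of scalars of a power series ring along a finite field extension. -/
theorem isRegularRing_powerSeries_tensor (k k' : Type u) [Field k] [Field k'] [Algebra k k'] [Module.Finite k k']
    (n : ℕ) : IsRegularRing (MvPowerSeries (Fin n) k ⊗[k] k') := by
  classical
  let f : k' →ₐ[k] MvPowerSeries (Fin n) k' := IsScalarTower.toAlgHom k k' _
  let g : MvPowerSeries (Fin n) k →ₐ[k] MvPowerSeries (Fin n) k' :=
    { MvPowerSeries.map (algebraMap k k') with
      commutes' := fun c => by
        show MvPowerSeries.map (algebraMap k k') (MvPowerSeries.C c) = _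
        rw [MvPowerSeries.map_C, MvPowerSeries.algebraMap_apply] }
  let φ : k' ⊗[k] MvPowerSeries (Fin n) k →ₐ[k] MvPowerSeries (Fin n) k' :=
    Algebra.TensorProduct.lift f g fun _ _ => Commute.all _ _
  let b := Module.finBasis k k'
  have hco : ∀ (x : k' ⊗[k] MvPowerSeries (Fin n) k) (e : Fin n →₀ ℕ), MvPowerSeries.coeff e (φ x) =
      ∑ i, MvPowerSeries.coeff e (TensorProduct.equivFinsuppOfBasisLeft b x i) • b i := by
    intro x e
    induction x with
    | zero => simp
    | add x y hx hy => simp [map_add, hx, hy, add_smul, Finset.sum_add_distrib]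
    | tmul c s =>
      have h1 : φ (c ⊗ₜ s) = MvPowerSeries.C c * MvPowerSeries.map (algebraMap k k') s :=
        Algebra.TensorProduct.lift_tmul _ _ _ c s
      rw [h1, MvPowerSeries.coeff_C_mul, MvPowerSeries.coeff_map]
      simp only [TensorProduct.equivFinsuppOfBasisLeft_apply_tmul_apply, map_smul, smul_eq_mul, ← smul_smul]
      conv_lhs => rw [← b.sum_repr c, Finset.sum_mul]
      refine Finset.sum_congr rfl fun i _ => ?_
      rw [Algebra.smul_def, Algebra.smul_def, Algebra.smul_def]
      ring
  have hbij : Function.Bijective φ := by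
    refine ⟨(injective_iff_map_eq_zero φ).mpr fun x hx => ?_, fun h => ?_⟩
    · refine (TensorProduct.equivFinsuppOfBasisLeft b).injective ?_
      rw [map_zero]
      refine Finsupp.ext fun i => MvPowerSeries.ext fun e => ?_
      rw [Finsupp.zero_apply, map_zero]
      exact Fintype.linearIndependent_iff.mp b.linearIndependent
        (fun i => MvPowerSeries.coeff e (TensorProduct.equivFinsuppOfBasisLeft b x i))
        (by rw [← hco, hx, map_zero]) i
    · refine ⟨(TensorProduct.equivFinsuppOfBasisLeft b).symm
        (Finsupp.equivFunOnFinite.symm fun i => (fun e => b.repr (MvPowerSeries.coeff e h) i : MvPowerSeries (Fin n) k)),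
        MvPowerSeries.ext fun e => ?_⟩
      rw [hco]
      simp only [LinearEquiv.apply_symm_apply]
      exact b.sum_repr (MvPowerSeries.coeff e h)
  haveI := isRegularRing_powerSeries k' n
  exact IsRegularRing.of_ringEquiv
    ((AlgEquiv.ofBijective φ hbij).symm.trans (Algebra.TensorProduct.comm k k' _)).toRingEquiv

section

variable (k A : Type u) [Field k] [CommRing A] [IsLocalRing A] [IsNoetherianRing A] [Algebra k A]
variable [IsAdicComplete (maximalIdeal A) A] [Module.Finite k (ResidueField A)]
variable (n : ℕ) [Algebra (MvPowerSeries (Fin n) k) A] [IsScalarTower k (MvPowerSeries (Fin n) k) A]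
variable [Module.Finite (MvPowerSeries (Fin n) k) A] (p : Ideal A) [p.IsPrime]

omit [IsAdicComplete (maximalIdeal A) A] [Module.Finite k (ResidueField A)] in
theorem isGeometricallyRegular_of_etale [Module.Flat (MvPowerSeries (Fin n) k) (Localization.AtPrime p)]
    [Algebra.IsUnramifiedAt (MvPowerSeries (Fin n) k) p] : CAlg.IsGeometricallyRegular k (Localization.AtPrime p) := by
  intro k' _ _ hk'
  let P := MvPowerSeries (Fin n) k
  let Sq := Localization.AtPrime p
  haveI := isRegularRing_powerSeries_tensor k k' n
  haveI : Algebra.EssFiniteType A Sq := Algebra.EssFiniteType.of_isLocalization _ p.primeCompl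
  haveI : Algebra.EssFiniteType P Sq := Algebra.EssFiniteType.comp P A _
  let B := P ⊗[k] k'
  let T := B ⊗[P] Sq
  haveI : Algebra.EssFiniteType B T := inferInstance
  haveI : IsNoetherianRing T := Algebra.EssFiniteType.isNoetherianRing B T
  haveI : IsRegularRing T := by
    constructor
    intro Q hQ
    haveI : Algebra.FormallyUnramified T (Localization.AtPrime Q) :=
      Algebra.FormallyUnramified.of_isLocalization Q.primeCompl
    haveI : Algebra.FormallyUnramified B (Localization.AtPrime Q) :=
      Algebra.FormallyUnramified.comp B T (Localization.AtPrime Q)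
    exact regular_of_flat_unramified (B := B) Q
  let e1 : T ≃+* Sq ⊗[k] k' :=
    (Algebra.TensorProduct.comm P B Sq).toRingEquiv.trans
      (Algebra.TensorProduct.cancelBaseChange k P Sq Sq k').toRingEquiv
  exact IsRegularRing.of_ringEquiv (R := T) (e1.trans (Algebra.TensorProduct.comm k Sq k').toRingEquiv)

theorem free_of_etale [IsLocalHom (algebraMap (MvPowerSeries (Fin n) k) A)]
    [Algebra.IsEtaleAt (MvPowerSeries (Fin n) k) p] :
    Module.Free (Localization.AtPrime p) (LocalizedModule p.primeCompl (OmegaHat k A)) ∧
      Module.finrank (Localization.AtPrime p) (LocalizedModule p.primeCompl (OmegaHat k A)) = n := by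
  classical
  let P := MvPowerSeries (Fin n) k
  let Sq := Localization.AtPrime p
  let w := IsScalarTower.toAlgHom k P A
  have hwm : ∀ i, w (MvPowerSeries.X i) ∈ maximalIdeal A := fun i => by
    refine (mem_maximalIdeal _).mpr fun hu => ?_
    have h := isUnit_of_map_unit (algebraMap P A) _ hu
    rw [MvPowerSeries.isUnit_iff_constantCoeff, MvPowerSeries.constantCoeff_X] at h
    exact not_isUnit_zero h
  haveI : Algebra.IsUnramifiedAt P p := inferInstance
  -- the partial derivatives of `P` extend to `A_p`
  let pd : Fin n → Derivation k P Sq := fun i => (Algebra.linearMap P Sq).compDer (MvPowerSeries.pderiv k i)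
  let Dp : Fin n → Derivation k Sq Sq := fun i =>
    (((pd i).liftKaehlerDifferential.liftBaseChange Sq) ∘ₗ
      (KaehlerDifferential.tensorKaehlerEquivOfFormallyEtale k P Sq).symm.toLinearMap).compDer
      (KaehlerDifferential.D k Sq)
  have hDp : ∀ i (f : P), Dp i (algebraMap P Sq f) = algebraMap P Sq (MvPowerSeries.pderiv k i f) := fun i f => by
    have h1 : KaehlerDifferential.D k Sq (algebraMap P Sq f) =
        KaehlerDifferential.tensorKaehlerEquivOfFormallyEtale k P Sq ((1 : Sq) ⊗ₜ[P] KaehlerDifferential.D k P f) := by
      show _ = KaehlerDifferential.mapBaseChange k P Sq ((1 : Sq) ⊗ₜ[P] KaehlerDifferential.D k P f)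
      simp
    show ((pd i).liftKaehlerDifferential.liftBaseChange Sq)
      ((KaehlerDifferential.tensorKaehlerEquivOfFormallyEtale k P Sq).symm (KaehlerDifferential.D k Sq (algebraMap P Sq f))) = _
    rw [h1, LinearEquiv.symm_apply_apply, LinearMap.liftBaseChange_tmul, one_smul,
      Derivation.liftKaehlerDifferential_comp_D]
    rfl
  obtain ⟨g, hg⟩ := (Module.Finite.fg_top : (⊤ : Submodule P A).FG)
  have hψ : ∀ i, ∃ ψ : OmegaHat k A →ₗ[A] Sq, ∀ a, ψ (dHat k A a) = Dp i (algebraMap A Sq a) := by
    intro i
    let N : Submodule A Sq := Submodule.span A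
      (insert 1 ((fun a => Dp i (algebraMap A Sq a)) '' (g : Set A)))
    haveI : Module.Finite A N :=
      Module.Finite.iff_fg.mpr (Submodule.fg_span ((g.finite_toSet.image _).insert _))
    have h1N : (1 : Sq) ∈ N := Submodule.subset_span (Set.mem_insert _ _)
    have hN : ∀ a, Dp i (algebraMap A Sq a) ∈ N := fun a => by
      have ha : a ∈ Submodule.span P (g : Set A) := hg ▸ Submodule.mem_top
      induction ha using Submodule.span_induction with
      | mem x hx => exact Submodule.subset_span (Set.mem_insert_of_mem _ ⟨x, hx, rfl⟩)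
      | zero => rw [map_zero, map_zero]; exact zero_mem N
      | add x y _ _ hx hy => rw [map_add, map_add]; exact add_mem hx hy
      | smul f x _ hx =>
        rw [Algebra.smul_def, map_mul, Derivation.leibniz, ← IsScalarTower.algebraMap_apply P A Sq, hDp]
        refine add_mem ?_ ?_
        · rw [IsScalarTower.algebraMap_apply P A Sq, algebraMap_smul]
          exact N.smul_mem _ hx
        · rw [algebraMap_smul, IsScalarTower.algebraMap_apply P A Sq, ← mul_one (algebraMap A Sq _),
            ← smul_eq_mul, algebraMap_smul]
          exact N.smul_mem _ (N.smul_mem _ h1N)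
    let δ : Derivation k A N := Derivation.mk'
      { toFun := fun a => ⟨Dp i (algebraMap A Sq a), hN a⟩
        map_add' := fun a b => Subtype.ext (by simp)
        map_smul' := fun c a => Subtype.ext (by
          show Dp i (algebraMap A Sq (c • a)) = c • Dp i (algebraMap A Sq a)
          rw [← IsScalarTower.coe_toAlgHom' k A Sq, map_smul, (Dp i).map_smul]) }
      fun a b => Subtype.ext (by
        show Dp i (algebraMap A Sq (a * b)) = a • Dp i (algebraMap A Sq b) + b • Dp i (algebraMap A Sq a)
        rw [map_mul, Derivation.leibniz, algebraMap_smul, algebraMap_smul])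
    obtain ⟨ψ, hψ⟩ := exists_lift k A δ
    exact ⟨N.subtype ∘ₗ ψ, fun a => congrArg Subtype.val (hψ a)⟩
  choose ψ hψ using hψ
  let ω : Fin n → OmegaHat k A := fun i => dHat k A (w (MvPowerSeries.X i))
  let s : Fin n → LocalizedModule p.primeCompl (OmegaHat k A) := fun i => LocalizedModule.mk (ω i) 1
  have hspan : Submodule.span Sq (Set.range s) = ⊤ := by
    refine (span_localized_eq_top_iff p ω).mpr fun v => ?_
    haveI : Module.Finite (ResidueField A) (Ω[ResidueField A⁄k]) := inferInstance
    obtain ⟨g', hg'1, -, hg'3⟩ := exists_to_relative k A P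
    have hiso := IsLocalizedModule.iso p.primeCompl (KaehlerDifferential.map P P A (Localization.AtPrime p))
    haveI : Subsingleton (LocalizedModule p.primeCompl Ω[A⁄P]) :=
      hiso.subsingleton_congr.mpr ((Algebra.formallyUnramified_iff _ _).mp inferInstance)
    obtain ⟨c, hc, hcv⟩ := (LocalizedModule.subsingleton_iff (S := p.primeCompl)).mp inferInstance (g' v)
    refine ⟨c, hc, Submodule.span_le.mpr ?_ (hg'3 ▸ (LinearMap.mem_ker.mpr (by rw [map_smul, hcv])))⟩
    rintro _ ⟨_, ⟨f, rfl⟩, rfl⟩
    exact dHat_powerSeries_mem k A w hwm f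
  let Ψ : LocalizedModule p.primeCompl (OmegaHat k A) →ₗ[Sq] (Fin n → Sq) :=
    (LocalizedModule.lift p.primeCompl (LinearMap.pi ψ) fun x => by
      rw [Module.End.isUnit_iff]
      have hu := IsLocalization.map_units Sq x
      refine ⟨fun a b h => funext fun i => ?_, fun b => ⟨fun i => ↑hu.unit⁻¹ * b i, funext fun i => ?_⟩⟩
      · have := congrFun h i
        simp only [Module.algebraMap_end_apply, Pi.smul_apply, Algebra.smul_def] at this
        exact hu.mul_left_cancel this
      · simp only [Module.algebraMap_end_apply, Pi.smul_apply, Algebra.smul_def]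
        rw [← mul_assoc, IsUnit.mul_val_inv, one_mul]).extendScalarsOfIsLocalization p.primeCompl Sq
  have hΨ : ∀ i, Ψ (s i) = Pi.single i 1 := fun i => by
    simp only [Ψ, s, LinearMap.extendScalarsOfIsLocalization_apply']
    rw [LocalizedModule.lift_mk_one]
    funext j
    show ψ j (dHat k A (algebraMap P A (MvPowerSeries.X i))) = _
    rw [hψ, ← IsScalarTower.algebraMap_apply P A Sq, hDp]
    by_cases h : i = j
    · subst h; rw [MvPowerSeries.pderiv_X_self, map_one, Pi.single_eq_same]
    · rw [MvPowerSeries.pderiv_X_of_ne h, map_zero, Pi.single_eq_of_ne (Ne.symm h)]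
  have hind : LinearIndependent Sq s := by
    refine LinearIndependent.of_comp Ψ ?_
    rw [show Ψ ∘ s = fun i => Pi.single (M := fun _ => Sq) i 1 from funext hΨ]
    exact Pi.linearIndependent_single_one (Fin n) Sq
  let bs := Module.Basis.mk hind hspan.ge
  exact ⟨Module.Free.of_basis bs, by rw [Module.finrank_eq_card_basis bs, Fintype.card_fin]⟩

end

end Groth.Agent.EGA418Dim
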