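/-
Differentials of complete local domains over a field have generic rank at least the dimension.
-/
import Mathlib
import Groth.Agent.EGA418Dim.Noether
import Groth.Agent.S2469

set_option autoImplicit false
universe u

namespace Groth.Agent.EGA418Dim

open IsLocalRing TensorProduct

theorem exists_finite_derivation (k B E : Type u) [Field k] [CommRing B] [IsDomain B] [IsLocalRing B]
    [IsNoetherianRing B] [IsAdicComplete (maximalIdeal B) B] [Algebra k B] [Module.Finite k (ResidueField B)]
    [Field E] [Algebra B E] [IsFractionRing B E] :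
    ∃ (V : Type u) (_ : AddCommGroup V) (_ : Module E V) (_ : Module B V) (_ : IsScalarTower B E V)
      (_ : Module.Finite E V) (N : Submodule B V) (D : Derivation ℤ B V),
      N.FG ∧ (∀ b, D b ∈ N) ∧ (∀ c : k, D (algebraMap k B c) = 0) ∧ Submodule.span E (Set.range D) = ⊤ ∧
        ringKrullDim B ≤ (Module.finrank E V : WithBot ℕ∞) := by
  classical
  obtain ⟨r, w, hinj, -, hfin, hdim⟩ := exists_noether (k := k) (A := B)
  let P := MvPowerSeries (Fin r) k
  obtain ⟨L, iLf, iLa, iLfr⟩ : ∃ (L : Type u) (_ : Field L) (_ : Algebra P L), IsFractionRing P L :=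
    ⟨FractionRing P, inferInstance, inferInstance, inferInstance⟩
  haveI : IsDomain P := NoZeroDivisors.to_isDomain _
  letI aZP : Algebra ℤ P := Ring.toIntAlgebra P
  letI aPB : Algebra P B := w.toRingHom.toAlgebra
  haveI : Module.Finite P B := hfin
  letI aPE : Algebra P E := ((algebraMap B E).comp (algebraMap P B)).toAlgebra
  haveI : IsScalarTower P B E := IsScalarTower.of_algebraMap_eq fun f => rfl
  haveI : FaithfulSMul P E := (faithfulSMul_iff_algebraMap_injective P E).mpr
    ((IsFractionRing.injective B E).comp hinj)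
  letI : Algebra L E := (IsFractionRing.lift (A := P) (g := algebraMap P E) (FaithfulSMul.algebraMap_injective P E) : L →+* E).toAlgebra
  haveI : IsScalarTower P L E := IsScalarTower.of_algebraMap_eq fun f =>
    (IsFractionRing.lift_algebraMap (FaithfulSMul.algebraMap_injective P E) f).symm
  haveI : IsScalarTower ℤ L E := IsScalarTower.of_algebraMap_eq' (Subsingleton.elim _ _)
  haveI : IsScalarTower ℤ P E := IsScalarTower.of_algebraMap_eq' (Subsingleton.elim _ _)
  haveI : IsScalarTower ℤ P L := IsScalarTower.of_algebraMap_eq' (Subsingleton.elim _ _)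
  -- `E` is finite over the fraction field of the power series ring
  haveI : Module.Finite L E := by
    obtain ⟨g, hg⟩ := (Module.Finite.fg_top : (⊤ : Submodule P B).FG)
    let S : Subalgebra L E := Algebra.adjoin L (algebraMap B E '' (g : Set B))
    have hint : ∀ x ∈ algebraMap B E '' (g : Set B), IsIntegral L x := by
      rintro _ ⟨b, -, rfl⟩
      exact ((Algebra.IsIntegral.isIntegral (R := P) b).map (IsScalarTower.toAlgHom P B E)).tower_top
    have hS : Module.Finite L S :=
      Module.Finite.iff_fg.mpr (fg_adjoin_of_finite (g.finite_toSet.image _) hint)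
    have hB : ∀ b : B, algebraMap B E b ∈ S := fun b => by
      have hb : b ∈ Submodule.span P (g : Set B) := hg ▸ Submodule.mem_top
      induction hb using Submodule.span_induction with
      | mem x hx => exact Algebra.subset_adjoin ⟨x, hx, rfl⟩
      | zero => rw [map_zero]; exact zero_mem S
      | add x y _ _ hx hy => rw [map_add]; exact add_mem hx hy
      | smul f x _ hx =>
        rw [Algebra.smul_def, map_mul, ← IsScalarTower.algebraMap_apply, IsScalarTower.algebraMap_apply P L E]
        exact mul_mem (S.algebraMap_mem _) hx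
    haveI : Algebra.IsIntegral L S := Algebra.IsIntegral.of_finite L S
    have hfield : IsField S := isField_of_isIntegral_of_isField' (R := L) (Field.toIsField L)
    have htop : ∀ x : E, x ∈ S := fun x => by
      obtain ⟨a, b, hb, rfl⟩ := IsFractionRing.div_surjective (A := B) x
      have hb0 : (⟨algebraMap B E b, hB b⟩ : S) ≠ 0 := fun h => by
        have := congrArg Subtype.val h
        exact nonZeroDivisors.ne_zero hb (IsFractionRing.injective B E (this.trans (map_zero _).symm))
      obtain ⟨c, hc⟩ := hfield.mul_inv_cancel hb0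
      have hc' : algebraMap B E b * (c : E) = 1 := congrArg Subtype.val hc
      rw [div_eq_mul_inv, ← eq_inv_of_mul_eq_one_right hc']
      exact mul_mem (hB a) c.2
    exact Module.Finite.of_surjective S.val.toLinearMap fun x => ⟨⟨x, htop x⟩, rfl⟩
  -- the partial derivatives
  haveI : IsScalarTower ℤ P (Fin r → E) := IsScalarTower.of_algebraMap_smul fun n x => by
    funext i
    simp [Algebra.smul_def]
  let δl : P →ₗ[ℤ] (Fin r → E) :=
    { toFun := fun f i => algebraMap P E (MvPowerSeries.pderiv k i f)
      map_add' := fun f g => funext fun i => by simp only [map_add, Pi.add_apply]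
      map_smul' := fun n f => funext fun i => by simp only [map_zsmul, RingHom.id_apply, Pi.smul_apply] }
  let δ : Derivation ℤ P (Fin r → E) := Derivation.mk' δl fun f g => funext fun i => by
    show algebraMap P E (MvPowerSeries.pderiv k i (f * g)) =
      f • algebraMap P E (MvPowerSeries.pderiv k i g) + g • algebraMap P E (MvPowerSeries.pderiv k i f)
    rw [Derivation.leibniz, smul_eq_mul, smul_eq_mul, map_add, map_mul, map_mul, Algebra.smul_def, Algebra.smul_def]
  haveI : Algebra.FormallyEtale P L := Algebra.FormallyEtale.of_isLocalization (nonZeroDivisors P)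
  let l₀ : Ω[L⁄ℤ] →ₗ[L] (Fin r → E) := (δ.liftKaehlerDifferential.liftBaseChange L) ∘ₗ
    (KaehlerDifferential.tensorKaehlerEquivOfFormallyEtale ℤ P L).symm.toLinearMap
  have hl₀ : ∀ f : P, l₀ (KaehlerDifferential.D ℤ L (algebraMap P L f)) = δ f := fun f => by
    have h1 : KaehlerDifferential.D ℤ L (algebraMap P L f) =
        KaehlerDifferential.tensorKaehlerEquivOfFormallyEtale ℤ P L ((1 : L) ⊗ₜ[P] KaehlerDifferential.D ℤ P f) := by
      show _ = KaehlerDifferential.mapBaseChange ℤ P L ((1 : L) ⊗ₜ[P] KaehlerDifferential.D ℤ P f)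
      simp
    show (δ.liftKaehlerDifferential.liftBaseChange L)
      ((KaehlerDifferential.tensorKaehlerEquivOfFormallyEtale ℤ P L).symm _) = _
    rw [h1, LinearEquiv.symm_apply_apply]
    simp
  let mbc := KaehlerDifferential.mapBaseChange ℤ L E
  let φ : E ⊗[L] Ω[L⁄ℤ] →ₗ[E] (Fin r → E) := l₀.liftBaseChange E
  let Υ := EGA41.imperfection ℤ L E
  let W := Υ.map φ
  obtain ⟨hΩfin, hΥfin, hindex⟩ := Groth.Agent.S2469.result (K := L) (L := E)
  haveI : Algebra.IsAlgebraic L E := Algebra.IsAlgebraic.of_finite L E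
  rw [trdeg_eq_zero, map_zero, Nat.cast_zero, sub_eq_zero, Nat.cast_inj] at hindex
  let Q := (Fin r → E) ⧸ W
  let g₀ : (E ⊗[L] Ω[L⁄ℤ]) ⧸ LinearMap.ker mbc →ₗ[E] Q := (LinearMap.ker mbc).liftQ (W.mkQ ∘ₗ φ) fun z hz =>
    (Submodule.Quotient.mk_eq_zero W).mpr ⟨z, hz, rfl⟩
  obtain ⟨l, hl⟩ := LinearMap.exists_extend (g₀ ∘ₗ mbc.quotKerEquivRange.symm.toLinearMap)
  have hlm : ∀ z, l (mbc z) = W.mkQ (φ z) := fun z => by
    have h1 := LinearMap.congr_fun hl ⟨mbc z, LinearMap.mem_range_self mbc z⟩
    have h2 : mbc.quotKerEquivRange.symm ⟨mbc z, LinearMap.mem_range_self mbc z⟩ = Submodule.Quotient.mk z := by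
      rw [LinearEquiv.symm_apply_eq]; rfl
    rw [LinearMap.comp_apply, LinearMap.comp_apply, LinearEquiv.coe_coe, h2] at h1
    exact h1
  let Λ : Ω[E⁄ℤ] →ₗ[E] Q × Ω[E⁄L] := l.prod (KaehlerDifferential.map ℤ L E E)
  let D₁ : Derivation ℤ E (Q × Ω[E⁄L]) := Λ.compDer (KaehlerDifferential.D ℤ E)
  have hP : ∀ f : P, D₁ (algebraMap P E f) = (W.mkQ (δ f), 0) := fun f => by
    refine Prod.ext ?_ ?_
    · show l (KaehlerDifferential.D ℤ E (algebraMap P E f)) = _
      have h1 : KaehlerDifferential.D ℤ E (algebraMap P E f) =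
          mbc ((1 : E) ⊗ₜ[L] KaehlerDifferential.D ℤ L (algebraMap P L f)) := by
        simp [mbc, ← IsScalarTower.algebraMap_apply]
      rw [h1, hlm]
      show W.mkQ _ = _
      rw [LinearMap.liftBaseChange_tmul, one_smul, hl₀]
    · show KaehlerDifferential.map ℤ L E E (KaehlerDifferential.D ℤ E (algebraMap P E f)) = 0
      rw [KaehlerDifferential.map_D, IsScalarTower.algebraMap_apply P L E]
      exact Derivation.map_algebraMap _ _
  have hδX : ∀ i, δ (MvPowerSeries.X i) = Pi.single i 1 := fun i => funext fun j => by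
    show algebraMap P E (MvPowerSeries.pderiv k j (MvPowerSeries.X i)) = Pi.single (M := fun _ => E) i 1 j
    by_cases h : i = j
    · subst h; rw [MvPowerSeries.pderiv_X_self, map_one, Pi.single_eq_same]
    · rw [MvPowerSeries.pderiv_X_of_ne h, map_zero, Pi.single_eq_of_ne (Ne.symm h)]
  have hΛs : Function.Surjective Λ := by
    have h0 : ∀ q : Q, ((q, 0) : Q × Ω[E⁄L]) ∈ LinearMap.range Λ := fun q => by
      obtain ⟨v, rfl⟩ := W.mkQ_surjective q
      have hv : v = ∑ i, v i • Pi.single (M := fun _ => E) i 1 := by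
        funext j; simp [Finset.sum_apply, Pi.single_apply]
      rw [hv, map_sum]
      have : ((∑ i, W.mkQ (v i • Pi.single i 1), 0) : Q × Ω[E⁄L]) =
          ∑ i, ((W.mkQ (v i • Pi.single i 1), 0) : Q × Ω[E⁄L]) := by
        refine Prod.ext ?_ ?_ <;> simp [Prod.fst_sum, Prod.snd_sum]
      rw [this]
      refine sum_mem fun i _ => ?_
      rw [map_smul, show ((v i • W.mkQ (Pi.single i 1), 0) : Q × Ω[E⁄L]) = v i • (W.mkQ (Pi.single i 1), 0) by
        rw [Prod.smul_mk, smul_zero], ← hδX, ← hP]
      exact Submodule.smul_mem _ _ (LinearMap.mem_range_self Λ _)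
    rintro ⟨q, ω⟩
    obtain ⟨z, rfl⟩ := KaehlerDifferential.map_surjective ℤ L E ω
    obtain ⟨z', hz'⟩ := h0 (q - l z)
    refine ⟨z + z', ?_⟩
    rw [map_add, hz']
    refine Prod.ext ?_ ?_
    · show l z + (q - l z) = q
      abel
    · show KaehlerDifferential.map ℤ L E E z + 0 = _
      rw [add_zero]
  let D : Derivation ℤ B (Q × Ω[E⁄L]) := D₁.compAlgebraMap B
  obtain ⟨g, hg⟩ := (Module.Finite.fg_top : (⊤ : Submodule P B).FG)
  let e : Fin r → Q × Ω[E⁄L] := fun i => (W.mkQ (Pi.single i 1), 0)
  let N : Submodule B (Q × Ω[E⁄L]) := Submodule.span B (D '' (g : Set B) ∪ Set.range e)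
  have hDP : ∀ f : P, D (algebraMap P B f) ∈ N := fun f => by
    have h1 : D (algebraMap P B f) = ∑ i, algebraMap P B (MvPowerSeries.pderiv k i f) • e i := by
      show D₁ (algebraMap B E (algebraMap P B f)) = _
      rw [← IsScalarTower.algebraMap_apply, hP]
      refine Prod.ext ?_ ?_
      · simp only [Prod.fst_sum, e, Prod.smul_fst]
        have hv : δ f = ∑ i, (algebraMap P E (MvPowerSeries.pderiv k i f)) • Pi.single (M := fun _ => E) i 1 := by
          funext j
          rw [Finset.sum_apply, Finset.sum_eq_single j]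
          · rw [Pi.smul_apply, Pi.single_eq_same, smul_eq_mul, mul_one]
            rfl
          · intro i _ hi
            rw [Pi.smul_apply, Pi.single_eq_of_ne (Ne.symm hi), smul_zero]
          · simp
        show W.mkQ (δ f) = _
        rw [hv, map_sum]
        refine Finset.sum_congr rfl fun i _ => ?_
        rw [map_smul, IsScalarTower.algebraMap_apply P B E, algebraMap_smul]
      · simp [Prod.snd_sum, e]
    rw [h1]
    exact sum_mem fun i _ => N.smul_mem _ (Submodule.subset_span (Or.inr ⟨i, rfl⟩))
  have hDN : ∀ b, D b ∈ N := fun b => by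
    have hb : b ∈ Submodule.span P (g : Set B) := hg ▸ Submodule.mem_top
    induction hb using Submodule.span_induction with
    | mem x hx => exact Submodule.subset_span (Or.inl ⟨x, hx, rfl⟩)
    | zero => rw [map_zero]; exact zero_mem _
    | add x y _ _ hx hy => rw [map_add]; exact add_mem hx hy
    | smul f x _ hx =>
      rw [Algebra.smul_def, Derivation.leibniz]
      exact add_mem (N.smul_mem _ hx) (N.smul_mem _ (hDP f))
  refine ⟨Q × Ω[E⁄L], inferInstance, inferInstance, inferInstance, inferInstance, inferInstance, N, D,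
    Submodule.fg_span ((g.finite_toSet.image _).union (Set.finite_range e)), hDN, fun c => ?_, ?_, ?_⟩
  · have h1 : algebraMap k B c = algebraMap P B (MvPowerSeries.C c) := by
      rw [show (MvPowerSeries.C c : P) = algebraMap k P c by rw [MvPowerSeries.algebraMap_apply]; rfl]
      exact (w.commutes c).symm
    rw [h1]
    show D₁ (algebraMap B E (algebraMap P B (MvPowerSeries.C c))) = 0
    rw [← IsScalarTower.algebraMap_apply, hP]
    refine Prod.ext ?_ rfl
    show W.mkQ (δ (MvPowerSeries.C c)) = 0
    rw [show δ (MvPowerSeries.C c) = 0 from funext fun i => by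
      show algebraMap P E (MvPowerSeries.pderiv k i (MvPowerSeries.C c)) = 0
      rw [MvPowerSeries.pderiv_C, map_zero], map_zero]
  · rw [eq_top_iff, ← LinearMap.range_eq_top.mpr hΛs, LinearMap.range_eq_map,
      ← KaehlerDifferential.span_range_derivation, Submodule.map_span]
    refine Submodule.span_le.mpr ?_
    rintro _ ⟨_, ⟨x, rfl⟩, rfl⟩
    obtain ⟨a, b, hb, rfl⟩ := IsFractionRing.div_surjective (A := B) x
    show D₁ (algebraMap B E a / algebraMap B E b) ∈ Submodule.span E (Set.range D)
    rw [Derivation.leibniz_div]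
    refine Submodule.smul_mem _ _ (sub_mem (Submodule.smul_mem _ _ ?_) (Submodule.smul_mem _ _ ?_))
    exacts [Submodule.subset_span ⟨a, rfl⟩, Submodule.subset_span ⟨b, rfl⟩]
  · rw [hdim, Nat.cast_le]
    have h1 : Module.finrank E W ≤ Module.finrank E Υ := Submodule.finrank_map_le φ Υ
    have h2 := Submodule.finrank_quotient_add_finrank W
    have h3 : Module.finrank E (Fin r → E) = r := by simp
    rw [Module.finrank_prod]
    show r ≤ Module.finrank E ((Fin r → E) ⧸ W) + Module.finrank E (Ω[E⁄L])
    have h4 : Module.finrank E (Ω[E⁄L]) = Module.finrank E Υ := hindex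
    omega

end Groth.Agent.EGA418Dim
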