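/-
Generation of the completed differentials by `dim A` elements.
-/
import Mathlib
import Groth.Agent.EGA418Dim.EtaleFree
import Groth.Agent.EGA41SymGr.Model
import Groth.Agent.RegLoc.Normal
import Groth.Agent.S5054

set_option autoImplicit false
universe u

namespace Groth.Agent.EGA418Dim

open IsLocalRing

theorem exists_etale_powerSeries (k A : Type u) [Field k] [CommRing A]
    [IsLocalRing A] [IsNoetherianRing A] [Algebra k A] [IsAdicComplete (maximalIdeal A) A]
    [Module.Finite k (ResidueField A)] (n : ℕ) (hn : ringKrullDim A = n)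
    (p : Ideal A) [p.IsPrime] (hp : p ≠ maximalIdeal A)
    (hq : ∃ q ∈ minimalPrimes A, q ≤ p ∧ ringKrullDim (A ⧸ q) = n)
    (hgen : ∃ s : Fin n → LocalizedModule p.primeCompl (OmegaHat k A),
      Submodule.span (Localization.AtPrime p) (Set.range s) = ⊤) :
    ∃ (_ : Algebra (MvPowerSeries (Fin n) k) A) (_ : IsScalarTower k (MvPowerSeries (Fin n) k) A),
        IsLocalHom (algebraMap (MvPowerSeries (Fin n) k) A) ∧ Module.Finite (MvPowerSeries (Fin n) k) A ∧
          Module.Flat (MvPowerSeries (Fin n) k) (Localization.AtPrime p) ∧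
          Algebra.IsEtaleAt (MvPowerSeries (Fin n) k) p := by
  obtain ⟨q, hqm, hqp, hdim⟩ := hq
  obtain ⟨ha, hst, hloc, hfin, hun⟩ :=
    (S5054.result k A p hp ⟨q, hqm, hqp, hdim.trans hn.symm⟩ n).mp hgen
  haveI := isRegularRing_powerSeries k n
  haveI : IsDomain (MvPowerSeries (Fin n) k) := NoZeroDivisors.to_isDomain _
  haveI := Cohen.isRegularLocalRing_mvPowerSeries k n
  haveI : IsIntegrallyClosed (MvPowerSeries (Fin n) k) := RegLoc.isIntegrallyClosed
  haveI := hfin
  haveI := hun
  haveI : q.IsPrime := hqm.1.1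
  obtain ⟨hflat, -, het⟩ := etale_of_unramified (EGA41SymGr.Model.ringKrullDim_eq k) p q hqp hdim
  exact ⟨ha, hst, hloc, hfin, hflat, het⟩

end Groth.Agent.EGA418Dim
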