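/-
Freeness from a fibre bound and a generic lower bound.
-/
import Mathlib

set_option autoImplicit false
universe u

namespace Groth.Agent.EGA418Dim

open TensorProduct

variable {A : Type u} [CommRing A] {M : Type u} [AddCommGroup M] [Module A M] [Module.Finite A M]
  (P : Ideal A) [P.IsPrime]

/-- Few generators at a prime from a small fibre. -/
theorem exists_generators_of_fibre (n : ℕ) (hn : Module.finrank P.ResidueField (P.ResidueField ⊗[A] M) ≤ n) :
    ∃ ω : Fin n → M, ∀ v : M, ∃ s ∈ P.primeCompl, s • v ∈ Submodule.span A (Set.range ω) := by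
  classical
  let κ := P.ResidueField
  let one : M → κ ⊗[A] M := fun m => (1 : κ) ⊗ₜ[A] m
  have hsp : Submodule.span κ (Set.range one) = ⊤ := by
    refine eq_top_iff.mpr fun z _ => ?_
    induction z using TensorProduct.induction_on with
    | zero => exact zero_mem _
    | add a b ha hb => exact add_mem (ha Submodule.mem_top) (hb Submodule.mem_top)
    | tmul c m =>
      rw [show c ⊗ₜ[A] m = c • one m by rw [TensorProduct.smul_tmul', smul_eq_mul, mul_one]]
      exact Submodule.smul_mem _ c (Submodule.subset_span ⟨m, rfl⟩)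
  obtain ⟨f, hf, hfspan, -⟩ := Submodule.exists_fun_fin_finrank_span_eq κ (Set.range one)
  choose g hg using hf
  have hd : Module.finrank κ (Submodule.span κ (Set.range one)) ≤ n := by rw [hsp, finrank_top]; exact hn
  let ω : Fin n → M := fun i => if h : (i : ℕ) < Module.finrank κ (Submodule.span κ (Set.range one)) then g ⟨i, h⟩ else 0
  refine ⟨ω, ?_⟩
  set S := Submodule.span A (Set.range ω)
  have hsub : Subsingleton (κ ⊗[A] (M ⧸ S)) := by
    have hsurj : Function.Surjective (S.mkQ.baseChange κ) := LinearMap.lTensor_surjective _ S.mkQ_surjective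
    have h0 : S.mkQ.baseChange κ = 0 := LinearMap.ext_on_range (hfspan.trans hsp) fun i => by
      rw [← hg i]
      show (1 : κ) ⊗ₜ[A] S.mkQ (g i) = 0
      rw [show S.mkQ (g i) = 0 from (Submodule.Quotient.mk_eq_zero S).mpr
        (Submodule.subset_span ⟨⟨i, lt_of_lt_of_le i.2 hd⟩, dif_pos i.2⟩), TensorProduct.tmul_zero]
    refine ⟨fun a b => ?_⟩
    obtain ⟨a, rfl⟩ := hsurj a
    obtain ⟨b, rfl⟩ := hsurj b
    rw [h0]
    rfl
  have hnot : (⟨P, ‹_›⟩ : PrimeSpectrum A) ∉ Module.support A (M ⧸ S) := by
    rw [Module.mem_support_iff_nontrivial_residueField_tensorProduct, not_nontrivial_iff_subsingleton]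
    exact hsub
  intro v
  obtain ⟨s, hs, hsv⟩ := Module.notMem_support_iff'.mp hnot (S.mkQ v)
  exact ⟨s, hs, (Submodule.Quotient.mk_eq_zero S).mp hsv⟩

/-- Freeness at a prime with integral local ring. -/
theorem free_localization_of_bounds (q : Ideal A) [q.IsPrime] (hqP : q ≤ P)
    (hker : ∀ a, algebraMap A (Localization.AtPrime P) a = 0 ↔ a ∈ q) (n : ℕ)
    (hP : Module.finrank P.ResidueField (P.ResidueField ⊗[A] M) ≤ n)
    (hq : n ≤ Module.finrank q.ResidueField (q.ResidueField ⊗[A] M)) :
    Module.Free (Localization.AtPrime P) (LocalizedModule P.primeCompl M) ∧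
      Module.finrank (Localization.AtPrime P) (LocalizedModule P.primeCompl M) = n := by
  classical
  obtain ⟨ω, hω⟩ := exists_generators_of_fibre P n hP
  let R := Localization.AtPrime P
  let f := LocalizedModule.mkLinearMap P.primeCompl M
  let s : Fin n → LocalizedModule P.primeCompl M := fun i => f (ω i)
  have hspan : Submodule.span R (Set.range s) = ⊤ := by
    rw [show Set.range s = f '' Set.range ω from Set.range_comp f ω,
      ← Submodule.localized'_span R P.primeCompl f, eq_top_iff]
    intro y _
    obtain ⟨⟨v, t⟩, rfl⟩ := IsLocalizedModule.mk'_surjective P.primeCompl f y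
    obtain ⟨c, hc, hcv⟩ := hω v
    exact (Submodule.mem_localized' _ _ _ _ _).mpr
      ⟨c • v, hcv, ⟨c, hc⟩ * t, IsLocalizedModule.mk'_cancel_left f v ⟨c, hc⟩ t⟩
  let κ := q.ResidueField
  let z : Fin n → κ ⊗[A] M := fun i => (1 : κ) ⊗ₜ[A] ω i
  have hz : LinearIndependent κ z := by
    have hone : ∀ m : M, m ∈ Submodule.span A (Set.range ω) → (1 : κ) ⊗ₜ[A] m ∈ Submodule.span κ (Set.range z) := by
      intro m hm
      induction hm using Submodule.span_induction with
      | mem x hx => obtain ⟨i, rfl⟩ := hx; exact Submodule.subset_span ⟨i, rfl⟩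
      | zero => rw [TensorProduct.tmul_zero]; exact zero_mem _
      | add x y _ _ hx hy => rw [TensorProduct.tmul_add]; exact add_mem hx hy
      | smul a x _ hx => rw [TensorProduct.tmul_smul, ← algebraMap_smul κ a]; exact Submodule.smul_mem _ _ hx
    have htop : Submodule.span κ (Set.range z) = ⊤ := by
      refine eq_top_iff.mpr fun v _ => ?_
      induction v using TensorProduct.induction_on with
      | zero => exact zero_mem _
      | add x y hx hy => exact add_mem (hx Submodule.mem_top) (hy Submodule.mem_top)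
      | tmul c m =>
        obtain ⟨t, ht, htm⟩ := hω m
        have ht0 : algebraMap A κ t ≠ 0 := fun h0 => ht (hqP (Ideal.algebraMap_residueField_eq_zero.mp h0))
        rw [show c ⊗ₜ[A] m = (c * (algebraMap A κ t)⁻¹) • ((1 : κ) ⊗ₜ[A] (t • m)) by
          rw [TensorProduct.tmul_smul, ← algebraMap_smul κ t, smul_smul, mul_assoc, inv_mul_cancel₀ ht0,
            mul_one, TensorProduct.smul_tmul', smul_eq_mul, mul_one]]
        exact Submodule.smul_mem _ _ (hone _ htm)
    rw [linearIndependent_iff_card_le_finrank_span, Set.finrank, htop, finrank_top, Fintype.card_fin]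
    exact hq
  have hind : LinearIndependent R s := by
    rw [Fintype.linearIndependent_iff]
    intro c hc i
    obtain ⟨b, hb⟩ := IsLocalization.exist_integer_multiples_of_finite P.primeCompl c
    choose a ha using hb
    have h1 : f (∑ j, a j • ω j) = 0 := by
      rw [map_sum]
      calc ∑ j, f (a j • ω j) = ∑ j, (b : A) • (c j • s j) := Finset.sum_congr rfl fun j _ => by
            rw [map_smul, ← smul_assoc, ← ha j, algebraMap_smul]
        _ = (b : A) • ∑ j, c j • s j := (Finset.smul_sum).symm
        _ = 0 := by rw [hc, smul_zero]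
    obtain ⟨t, ht⟩ := (IsLocalizedModule.eq_zero_iff P.primeCompl f).mp h1
    have h2 : ∑ j, algebraMap A κ ((t : A) * a j) • z j = 0 := by
      calc ∑ j, algebraMap A κ ((t : A) * a j) • z j = ∑ j, (1 : κ) ⊗ₜ[A] (((t : A) * a j) • ω j) :=
            Finset.sum_congr rfl fun j _ => by rw [TensorProduct.tmul_smul, algebraMap_smul]
        _ = (1 : κ) ⊗ₜ[A] ((t : A) • ∑ j, a j • ω j) := by
            rw [Finset.smul_sum, TensorProduct.tmul_sum]
            simp only [smul_smul]
        _ = 0 := by rw [show (t : A) • ∑ j, a j • ω j = 0 from ht, TensorProduct.tmul_zero]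
    have h3 := Ideal.algebraMap_residueField_eq_zero.mp (Fintype.linearIndependent_iff.mp hz _ h2 i)
    have h4 : a i ∈ q := (Ideal.IsPrime.mem_or_mem ‹q.IsPrime› h3).resolve_left fun h => t.2 (hqP h)
    have h5 : (b : A) • c i = 0 := by rw [← ha i]; exact (hker _).mpr h4
    rw [Algebra.smul_def] at h5
    exact (IsLocalization.map_units R b).mul_right_eq_zero.mp h5
  let bs := Module.Basis.mk hind hspan.ge
  exact ⟨Module.Free.of_basis bs, by rw [Module.finrank_eq_card_basis bs, Fintype.card_fin]⟩

end Groth.Agent.EGA418Dim
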