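/-
Pairs of derivations as a derivation of a tensor product.
-/
import Mathlib

set_option autoImplicit false
universe u

namespace Groth.Agent.EGA418Dim

open TensorProduct

attribute [local instance 2000] Ring.toIntAlgebra

/-- Two derivations into modules over a common algebra give a derivation of the tensor product killing nothing more. -/
theorem exists_tensor_derivation {k A B K E₁ E₂ : Type u} [CommRing k] [CommRing A] [CommRing B] [CommRing K]
    [Algebra k A] [Algebra k B] [Algebra A K] [Algebra B K] [Algebra k K] [IsScalarTower k A K] [IsScalarTower k B K]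
    [Algebra (A ⊗[k] B) K]
    (hS : ∀ a c, algebraMap (A ⊗[k] B) K (a ⊗ₜ c) = algebraMap A K a * algebraMap B K c)
    [AddCommGroup E₁] [Module K E₁] [Module A E₁] [IsScalarTower A K E₁] [Module k E₁] [IsScalarTower k K E₁]
    [Module (A ⊗[k] B) E₁] [IsScalarTower (A ⊗[k] B) K E₁]
    [AddCommGroup E₂] [Module K E₂] [Module B E₂] [IsScalarTower B K E₂] [Module k E₂] [IsScalarTower k K E₂]
    [Module (A ⊗[k] B) E₂] [IsScalarTower (A ⊗[k] B) K E₂]
    (d₁ : Derivation k A E₁) (d₂ : Derivation k B E₂)
    (h₁ : Submodule.span K (Set.range d₁) = ⊤) (h₂ : Submodule.span K (Set.range d₂) = ⊤) :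
    ∃ δ : Derivation ℤ (A ⊗[k] B) (E₁ × E₂), Submodule.span K (Set.range δ) = ⊤ := by
  let ψ₁ : A ⊗[k] B →ₗ[k] E₁ := TensorProduct.lift <| LinearMap.mk₂ k (fun a c => algebraMap B K c • d₁ a)
    (fun a a' c => by simp only [map_add, smul_add])
    (fun l a c => by rw [Derivation.map_smul, smul_comm])
    (fun a c c' => by simp only [map_add, add_smul])
    (fun l a c => by rw [Algebra.smul_def, map_mul, ← IsScalarTower.algebraMap_apply, mul_smul, algebraMap_smul])
  let ψ₂ : A ⊗[k] B →ₗ[k] E₂ := TensorProduct.lift <| LinearMap.mk₂ k (fun a c => algebraMap A K a • d₂ c)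
    (fun a a' c => by simp only [map_add, add_smul])
    (fun l a c => by rw [Algebra.smul_def, map_mul, ← IsScalarTower.algebraMap_apply, mul_smul, algebraMap_smul])
    (fun a c c' => by simp only [map_add, smul_add])
    (fun l a c => by rw [Derivation.map_smul, smul_comm])
  have hψ₁ : ∀ a c, ψ₁ (a ⊗ₜ c) = algebraMap B K c • d₁ a := fun a c => rfl
  have hψ₂ : ∀ a c, ψ₂ (a ⊗ₜ c) = algebraMap A K a • d₂ c := fun a c => rfl
  have hA : ∀ (a : A) (v : E₁), a • v = algebraMap A K a • v := fun a v => (algebraMap_smul K a v).symm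
  have hB : ∀ (c : B) (v : E₂), c • v = algebraMap B K c • v := fun c v => (algebraMap_smul K c v).symm
  let D₁ : Derivation ℤ (A ⊗[k] B) E₁ := Derivation.mk' ψ₁.toAddMonoidHom.toIntLinearMap fun u v => by
    show ψ₁ (u * v) = u • ψ₁ v + v • ψ₁ u
    rw [← algebraMap_smul K u, ← algebraMap_smul K v]
    induction u using TensorProduct.induction_on with
    | zero => simp
    | add u u' hu hu' => rw [add_mul, map_add, map_add, map_add, hu, hu', add_smul, smul_add]; abel
    | tmul a c =>
      induction v using TensorProduct.induction_on with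
      | zero => simp
      | add v v' hv hv' => rw [mul_add, map_add, map_add, map_add, hv, hv', add_smul, smul_add]; abel
      | tmul a' c' =>
        rw [Algebra.TensorProduct.tmul_mul_tmul, hψ₁, hψ₁, hψ₁, hS, hS, Derivation.leibniz, hA, hA, map_mul,
          smul_add, smul_smul, smul_smul, smul_smul, smul_smul]
        congr 1 <;> congr 1 <;> ring
  let D₂ : Derivation ℤ (A ⊗[k] B) E₂ := Derivation.mk' ψ₂.toAddMonoidHom.toIntLinearMap fun u v => by
    show ψ₂ (u * v) = u • ψ₂ v + v • ψ₂ u
    rw [← algebraMap_smul K u, ← algebraMap_smul K v]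
    induction u using TensorProduct.induction_on with
    | zero => simp
    | add u u' hu hu' => rw [add_mul, map_add, map_add, map_add, hu, hu', add_smul, smul_add]; abel
    | tmul a c =>
      induction v using TensorProduct.induction_on with
      | zero => simp
      | add v v' hv hv' => rw [mul_add, map_add, map_add, map_add, hv, hv', add_smul, smul_add]; abel
      | tmul a' c' =>
        rw [Algebra.TensorProduct.tmul_mul_tmul, hψ₂, hψ₂, hψ₂, hS, hS, Derivation.leibniz, hB, hB, map_mul,
          smul_add, smul_smul, smul_smul, smul_smul, smul_smul]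
        congr 1 <;> congr 1 <;> ring
  let δ : Derivation ℤ (A ⊗[k] B) (E₁ × E₂) := Derivation.mk' (D₁.toLinearMap.prod D₂.toLinearMap) fun u v =>
    Prod.ext (D₁.leibniz u v) (D₂.leibniz u v)
  refine ⟨δ, eq_top_iff.mpr fun x _ => ?_⟩
  obtain ⟨x, y⟩ := x
  set T := Submodule.span K (Set.range δ)
  have hx : ∀ z ∈ Submodule.span K (Set.range d₁), ((z, 0) : E₁ × E₂) ∈ T := fun z hz => by
    induction hz using Submodule.span_induction with
    | mem z hz =>
      obtain ⟨a, rfl⟩ := hz
      refine Submodule.subset_span ⟨a ⊗ₜ 1, Prod.ext ?_ ?_⟩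
      · show ψ₁ (a ⊗ₜ 1) = d₁ a
        rw [hψ₁, map_one, one_smul]
      · show ψ₂ (a ⊗ₜ 1) = 0
        rw [hψ₂, Derivation.map_one_eq_zero, smul_zero]
    | zero => exact zero_mem T
    | add a b _ _ ha hb => simpa using add_mem ha hb
    | smul c a _ ha => simpa using T.smul_mem c ha
  have hy : ∀ z ∈ Submodule.span K (Set.range d₂), ((0, z) : E₁ × E₂) ∈ T := fun z hz => by
    induction hz using Submodule.span_induction with
    | mem z hz =>
      obtain ⟨c, rfl⟩ := hz
      refine Submodule.subset_span ⟨1 ⊗ₜ c, Prod.ext ?_ ?_⟩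
      · show ψ₁ (1 ⊗ₜ c) = 0
        rw [hψ₁, Derivation.map_one_eq_zero, smul_zero]
      · show ψ₂ (1 ⊗ₜ c) = d₂ c
        rw [hψ₂, map_one, one_smul]
    | zero => exact zero_mem T
    | add a b _ _ ha hb => simpa using add_mem ha hb
    | smul c a _ ha => simpa using T.smul_mem c ha
  simpa using add_mem (hx x (h₁ ▸ Submodule.mem_top)) (hy y (h₂ ▸ Submodule.mem_top))

/-- Base change of a spanning derivation spans. -/
theorem span_baseChange_derivation {A K M : Type u} [CommRing A] [CommRing K] [Algebra A K] [AddCommGroup M]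
    [Module A M] (s : Set M) (hs : Submodule.span A s = ⊤) :
    Submodule.span K ((TensorProduct.mk A K M 1) '' s) = ⊤ := by
  refine eq_top_iff.mpr fun v _ => ?_
  have h1 : ∀ m, (1 : K) ⊗ₜ[A] m ∈ Submodule.span K ((TensorProduct.mk A K M 1) '' s) := fun m => by
    have hm : (TensorProduct.mk A K M 1) m ∈ (Submodule.span A s).map (TensorProduct.mk A K M 1) :=
      ⟨m, hs ▸ Submodule.mem_top, rfl⟩
    rw [Submodule.map_span] at hm
    exact Submodule.span_le_restrictScalars A K _ hm
  induction v using TensorProduct.induction_on with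
  | zero => exact zero_mem _
  | add a b ha hb => exact add_mem (ha Submodule.mem_top) (hb Submodule.mem_top)
  | tmul x m =>
    rw [show x ⊗ₜ[A] m = x • ((1 : K) ⊗ₜ[A] m) by rw [TensorProduct.smul_tmul', smul_eq_mul, mul_one]]
    exact Submodule.smul_mem _ _ (h1 m)

end Groth.Agent.EGA418Dim
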