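/-
Fibres of the completed differentials at geometrically regular primes.
-/
import Mathlib
import Groth.Prelude.Def_Found
import Groth.Agent.EGA418Dim.FibreBound
import Groth.Agent.EGA418Dim.Omega
import Groth.Agent.EGA418Dim.FFinite
import Groth.Agent.EGA418Dim.TensorDer
import Groth.Agent.EGA41FS.LiftUnique
import Groth.Agent.RegLoc.Order
import Groth.Agent.S5989

set_option autoImplicit false
universe u

namespace Groth.Agent.EGA418Dim

open IsLocalRing TensorProduct

attribute [local instance 2000] Ring.toIntAlgebra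

variable (k A : Type u) [Field k] [CommRing A] [IsLocalRing A] [IsNoetherianRing A] [Algebra k A]
  (P : Ideal A) [P.IsPrime]

/-- At a prime with integral local ring the dimensions add up to at most that of the component. -/
theorem height_add_dim_le [IsDomain (Localization.AtPrime P)] (q : Ideal A) (hq : q ∈ minimalPrimes A) (hqP : q ≤ P) :
    ringKrullDim (Localization.AtPrime P) + ringKrullDim (A ⧸ P) ≤ ringKrullDim (A ⧸ q) := by
  haveI hqp : q.IsPrime := hq.1.1
  let R := Localization.AtPrime P
  let B := A ⧸ q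
  let P' : PrimeSpectrum B := ⟨P.map (Ideal.Quotient.mk q),
    Ideal.map_isPrime_of_surjective Ideal.Quotient.mk_surjective (by rwa [Ideal.mk_ker])⟩
  have hle : ∀ Q : PrimeSpectrum R, q ≤ Q.asIdeal.comap (algebraMap A R) := fun Q => by
    refine le_trans ?_ (Ideal.comap_mono (bot_le : (⊥ : Ideal R) ≤ Q.asIdeal))
    haveI : ((⊥ : Ideal R).comap (algebraMap A R)).IsPrime := Ideal.IsPrime.comap _
    refine hq.2 ⟨inferInstance, bot_le⟩ fun a ha => ?_
    obtain ⟨s, hs⟩ := (IsLocalization.map_eq_zero_iff P.primeCompl R a).mp (Ideal.mem_bot.mp (Ideal.mem_comap.mp ha))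
    exact (hqp.mem_or_mem (hs ▸ q.zero_mem : (s : A) * a ∈ q)).resolve_left fun h => s.2 (hqP h)
  have hprime : ∀ Q : PrimeSpectrum R, ((Q.asIdeal.comap (algebraMap A R)).map (Ideal.Quotient.mk q)).IsPrime :=
    fun Q => Ideal.map_isPrime_of_surjective Ideal.Quotient.mk_surjective (by rw [Ideal.mk_ker]; exact hle Q)
  let Ψ : PrimeSpectrum R → PrimeSpectrum B := fun Q => ⟨_, hprime Q⟩
  have hcomap : ∀ Q : PrimeSpectrum R, (Ψ Q).asIdeal.comap (Ideal.Quotient.mk q) = Q.asIdeal.comap (algebraMap A R) :=
    fun Q => by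
      show Ideal.comap _ (Ideal.map _ _) = _
      rw [Ideal.comap_map_of_surjective _ Ideal.Quotient.mk_surjective, ← RingHom.ker_eq_comap_bot, Ideal.mk_ker,
        sup_eq_left.mpr (hle Q)]
  have hmono : StrictMono Ψ := fun Q Q' h => by
    refine lt_of_le_of_ne (Ideal.map_mono (Ideal.comap_mono h.le)) fun heq => h.ne (PrimeSpectrum.ext ?_)
    have := congrArg (fun X : PrimeSpectrum B => X.asIdeal.comap (Ideal.Quotient.mk q)) heq
    simp only [hcomap] at this
    calc Q.asIdeal = (Q.asIdeal.comap (algebraMap A R)).map (algebraMap A R) :=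
          (IsLocalization.map_comap P.primeCompl R _).symm
      _ = (Q'.asIdeal.comap (algebraMap A R)).map (algebraMap A R) := by rw [this]
      _ = Q'.asIdeal := IsLocalization.map_comap P.primeCompl R _
  have htop : Ψ (closedPoint R) = P' := PrimeSpectrum.ext (by
    show Ideal.map _ (Ideal.comap _ (maximalIdeal R)) = Ideal.map _ P
    rw [show (maximalIdeal R).comap (algebraMap A R) = P from Localization.AtPrime.under_maximalIdeal])
  let Φ : PrimeSpectrum (A ⧸ P) → PrimeSpectrum B := PrimeSpectrum.comap (Ideal.Quotient.factor hqP)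
  have hΦ : StrictMono Φ := fun a b h => (Ideal.comap_mono h.le).lt_of_ne fun he => h.ne (PrimeSpectrum.ext
    (Ideal.comap_injective_of_surjective _ (Ideal.Quotient.factor_surjective hqP) he))
  have hbot : Φ ⊥ = P' := PrimeSpectrum.ext (by
    show Ideal.comap (Ideal.Quotient.factor hqP) (⊥ : Ideal (A ⧸ P)) = Ideal.map _ P
    refine Ideal.comap_injective_of_surjective _ Ideal.Quotient.mk_surjective ?_
    rw [Ideal.comap_comap, Ideal.Quotient.factor_comp_mk, ← RingHom.ker_eq_comap_bot, Ideal.mk_ker,
      Ideal.comap_map_of_surjective _ Ideal.Quotient.mk_surjective, ← RingHom.ker_eq_comap_bot, Ideal.mk_ker,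
      sup_eq_left.mpr hqP])
  have h1 : Order.height (closedPoint R) ≤ Order.height P' :=
    htop ▸ Order.height_le_height_apply_of_strictMono Ψ hmono _
  have h2 : Order.coheight (⊥ : PrimeSpectrum (A ⧸ P)) ≤ Order.coheight P' :=
    hbot ▸ Order.coheight_le_coheight_apply_of_strictMono Φ hΦ _
  have h3 : ringKrullDim R = (Order.height (closedPoint R) : WithBot ℕ∞) := by
    rw [← maximalIdeal_height_eq_ringKrullDim]
    exact congrArg _ (PrimeSpectrum.height_eq_orderHeight (closedPoint R))
  have h4 : ringKrullDim (A ⧸ P) = (Order.coheight (⊥ : PrimeSpectrum (A ⧸ P)) : WithBot ℕ∞) :=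
    (Order.coheight_bot_eq_krullDim).symm
  haveI : Nonempty (PrimeSpectrum B) := ⟨P'⟩
  rw [h3, h4, ← WithBot.coe_add, show ringKrullDim B = _ from Order.krullDim_eq_iSup_height_add_coheight_of_nonempty,
    WithBot.coe_le_coe]
  exact le_trans (add_le_add h1 h2) (le_iSup (fun a => Order.height a + Order.coheight a) P')

variable [IsAdicComplete (maximalIdeal A) A] [Module.Finite k (ResidueField A)]

omit [IsNoetherianRing A] [IsAdicComplete (maximalIdeal A) A] in
theorem finite_residueField_quotient : Module.Finite k (ResidueField (A ⧸ P)) := by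
  haveI : IsLocalHom (Ideal.Quotient.mk P) := IsLocalHom.of_surjective _ Ideal.Quotient.mk_surjective
  let fr : ResidueField A →ₐ[k] ResidueField (A ⧸ P) :=
    { ResidueField.map (Ideal.Quotient.mk P) with
      commutes' := fun c => by
        rw [IsScalarTower.algebraMap_apply k A (ResidueField A),
          IsScalarTower.algebraMap_apply k (A ⧸ P) (ResidueField (A ⧸ P))]
        rfl }
  refine Module.Finite.of_surjective fr.toLinearMap fun y => ?_
  obtain ⟨b, rfl⟩ := residue_surjective y
  obtain ⟨a, rfl⟩ := Ideal.Quotient.mk_surjective b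
  exact ⟨residue A a, rfl⟩

/-- Absolute differentials of a residue field over an F-finite field. -/
theorem finrank_kaehler_residueField (p : ℕ) [Fact p.Prime] [CharP k p] (hk : (frobenius k p).Finite)
    (e : ℕ) (he : ringKrullDim (A ⧸ P) = e) :
    Module.Finite P.ResidueField (Ω[P.ResidueField⁄ℤ]) ∧ Module.finrank P.ResidueField (Ω[P.ResidueField⁄ℤ]) =
      e + Module.finrank k (Ω[k⁄ℤ]) := by
  haveI : IsDomain (A ⧸ P) := Ideal.Quotient.isDomain P
  haveI : IsAdicComplete (maximalIdeal (A ⧸ P)) (A ⧸ P) := EGA41FS.isAdicComplete_quotient P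
  haveI := finite_residueField_quotient k A P
  let κ := P.ResidueField
  haveI : IsScalarTower k (A ⧸ P) κ := IsScalarTower.of_algebraMap_eq fun r => by
    rw [IsScalarTower.algebraMap_apply k A κ, IsScalarTower.algebraMap_apply k A (A ⧸ P),
      ← IsScalarTower.algebraMap_apply A (A ⧸ P) κ]
  obtain ⟨heq, hfin⟩ := S5989.result p k (A ⧸ P) κ hk e he
  haveI := hfin
  haveI : Algebra.FormallyEtale (A ⧸ P) κ := Algebra.FormallyEtale.of_isLocalization (nonZeroDivisors (A ⧸ P))
  haveI : Module.Finite κ (Ω[κ⁄k]) :=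
    Module.Finite.equiv (KaehlerDifferential.tensorKaehlerEquivOfFormallyEtale k (A ⧸ P) κ)
  haveI : Module.Finite k (Ω[k⁄ℤ]) := finite_kaehler_of_frobenius p ℤ k hk
  let mbc := KaehlerDifferential.mapBaseChange ℤ k κ
  let π := KaehlerDifferential.map ℤ k κ κ
  haveI hf : Module.Finite κ (Ω[κ⁄ℤ]) := Module.Finite.of_exact (f := mbc) (g := π)
    (KaehlerDifferential.exact_mapBaseChange_map ℤ k κ) (KaehlerDifferential.map_surjective ℤ k κ)
  refine ⟨hf, ?_⟩
  have e1 := LinearMap.finrank_range_add_finrank_ker (K := κ) π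
  rw [LinearMap.range_eq_top.mpr (KaehlerDifferential.map_surjective ℤ k κ), finrank_top,
    (KaehlerDifferential.exact_mapBaseChange_map ℤ k κ).linearMap_ker_eq] at e1
  have e2 := LinearMap.finrank_range_add_finrank_ker (K := κ) (V := κ ⊗[k] Ω[k⁄ℤ]) mbc
  have f0 : Module.finrank κ (κ ⊗[k] Ω[k⁄ℤ]) = Module.finrank k (Ω[k⁄ℤ]) := Module.finrank_baseChange
  have f1 : Module.finrank κ (Ω[κ⁄k]) + Module.finrank κ (LinearMap.range mbc) = Module.finrank κ (Ω[κ⁄ℤ]) := e1
  have f2 : Module.finrank κ (LinearMap.range mbc) + Module.finrank κ (LinearMap.ker mbc) =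
      Module.finrank κ (κ ⊗[k] Ω[k⁄ℤ]) := e2
  have f3 : Module.finrank κ (Ω[κ⁄k]) = e + Module.finrank κ (LinearMap.ker mbc) := heq
  clear e1 e2 heq
  show Module.finrank κ (Ω[κ⁄ℤ]) = _
  omega

omit [IsNoetherianRing A] [IsLocalRing A] [IsAdicComplete (maximalIdeal A) A] [Module.Finite k (ResidueField A)] in
/-- A regular prime over `P` after a finite extension of the base field. -/
theorem exists_regular_prime (hP : CAlg.IsGeometricallyRegular k (Localization.AtPrime P))
    (k' : Type u) [Field k'] [Algebra k k'] [Module.Finite k k'] :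
    ∃ (M : Ideal (A ⊗[k] k')) (_ : M.IsPrime), M.LiesOver P ∧ IsRegularLocalRing (Localization.AtPrime M) ∧
      ringKrullDim (Localization.AtPrime M) ≤ ringKrullDim (Localization.AtPrime P) := by
  let S := A ⊗[k] k'
  obtain ⟨M, -, hMprime, hMP⟩ := Ideal.exists_ideal_over_prime_of_isIntegral (S := S) P ⊥ (by
    rw [← RingHom.ker_eq_comap_bot, (RingHom.injective_iff_ker_eq_bot _).mp (FaithfulSMul.algebraMap_injective A S)]
    exact bot_le)
  haveI := hMprime
  refine ⟨M, hMprime, ⟨hMP.symm⟩, ?_, ?_⟩
  · let R := Localization.AtPrime P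
    let T := Localization (Algebra.algebraMapSubmonoid S P.primeCompl)
    haveI : Algebra.IsPushout A R S T := .symm <| Algebra.isPushout_of_isLocalization P.primeCompl _ _ _
    haveI : IsRegularRing T := by
      haveI : IsRegularRing (k' ⊗[k] R) := hP k' inferInstance
      exact IsRegularRing.of_ringEquiv
        (((Algebra.TensorProduct.comm k k' R).toRingEquiv.trans
          (Algebra.TensorProduct.cancelBaseChange k A R R k').toRingEquiv.symm).trans
            (Algebra.IsPushout.equiv A R S T).toRingEquiv)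
    have hdisj : Disjoint (Algebra.algebraMapSubmonoid S P.primeCompl : Set S) (M : Set S) := by
      rw [Set.disjoint_left]
      rintro _ ⟨a, ha, rfl⟩ ham
      exact ha (hMP ▸ ham : a ∈ P)
    let M' := M.map (algebraMap S T)
    haveI : M'.IsPrime := IsLocalization.isPrime_of_isPrime_disjoint _ T M hMprime hdisj
    have hc : M'.comap (algebraMap S T) = M := IsLocalization.comap_map_of_isPrime_disjoint _ T hMprime hdisj
    haveI hloc : IsLocalization.AtPrime (Localization.AtPrime M') M := by
      have h2 := IsLocalization.isLocalization_isLocalization_atPrime_isLocalization (R := S)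
        (Algebra.algebraMapSubmonoid S P.primeCompl) (Localization.AtPrime M') M'
      have hpc : (M'.comap (algebraMap S T)).primeCompl = M.primeCompl :=
        Submonoid.ext fun x => not_congr (SetLike.ext_iff.mp hc x)
      show IsLocalization M.primeCompl _
      rw [← hpc]
      exact h2
    exact IsRegularLocalRing.of_ringEquiv (R := Localization.AtPrime M')
      (IsLocalization.algEquiv M.primeCompl (Localization.AtPrime M') (Localization.AtPrime M)).toRingEquiv

  · rw [IsLocalization.AtPrime.ringKrullDim_eq_height M, IsLocalization.AtPrime.ringKrullDim_eq_height P,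
      WithBot.coe_le_coe]
    refine le_of_eq_of_le (PrimeSpectrum.height_eq_orderHeight ⟨M, hMprime⟩)
      (le_of_le_of_eq ?_ (PrimeSpectrum.height_eq_orderHeight ⟨P, inferInstance⟩).symm)
    refine (Order.height_le_height_apply_of_strictMono (PrimeSpectrum.comap (algebraMap A S))
      (fun a b hab => Ideal.IsIntegral.comap_lt_comap (R := A) hab) _).trans (le_of_eq ?_)
    exact congrArg Order.height (PrimeSpectrum.ext hMP)

omit [IsNoetherianRing A] [IsLocalRing A] [IsAdicComplete (maximalIdeal A) A] [Module.Finite k (ResidueField A)] [Algebra k A] in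
/-- Relative differentials for an algebra structure given by a `p`-th power map. -/
theorem finrank_kaehler_of_D_eq_zero (k' : Type u) [Field k'] [Algebra k k']
    (hDalg : ∀ c : k, KaehlerDifferential.D ℤ k' (algebraMap k k' c) = 0) :
    Module.finrank k' (Ω[k'⁄k]) = Module.finrank k' (Ω[k'⁄ℤ]) := by
  refine (LinearEquiv.ofBijective (KaehlerDifferential.map ℤ k k' k')
    ⟨(injective_iff_map_eq_zero _).mpr fun x hx => ?_, KaehlerDifferential.map_surjective ℤ k k'⟩).finrank_eq.symm
  obtain ⟨z, rfl⟩ := (KaehlerDifferential.exact_mapBaseChange_map ℤ k k' x).mp hx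
  induction z using TensorProduct.induction_on with
  | zero => simp
  | add a b ha hb => rw [map_add, ha (by simp [(KaehlerDifferential.exact_mapBaseChange_map ℤ k k').apply_apply_eq_zero]),
      hb (by simp [(KaehlerDifferential.exact_mapBaseChange_map ℤ k k').apply_apply_eq_zero]), add_zero]
  | tmul c w =>
    rw [KaehlerDifferential.mapBaseChange_tmul]
    have hw : w ∈ Submodule.span k (Set.range (KaehlerDifferential.D ℤ k)) :=
      (KaehlerDifferential.span_range_derivation ℤ k).symm ▸ Submodule.mem_top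
    refine smul_eq_zero_of_right c ?_
    clear hx
    induction hw using Submodule.span_induction with
    | mem u hu => obtain ⟨a, rfl⟩ := hu; rw [KaehlerDifferential.map_D]; exact hDalg a
    | zero => exact map_zero _
    | add a b _ _ ha hb => rw [map_add, ha, hb, add_zero]
    | smul a b _ hb => rw [map_smul, hb, smul_zero]

/-- Comparison of the fibres after a finite extension of the base field. -/
theorem rank_fibre_tensor_le (k' : Type u) [Field k'] [Algebra k k'] (M : Ideal (A ⊗[k] k')) [M.IsPrime]
    [Algebra k' M.ResidueField]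
    (hj : ∀ c : k', algebraMap k' M.ResidueField c = algebraMap (A ⊗[k] k') M.ResidueField ((1 : A) ⊗ₜ c)) :
    Module.rank M.ResidueField ((M.ResidueField ⊗[A] OmegaHat k A) × (M.ResidueField ⊗[k'] Ω[k'⁄k])) ≤
      Module.rank M.ResidueField (M.ResidueField ⊗[A ⊗[k] k'] Ω[A ⊗[k] k'⁄ℤ]) := by
  classical
  let S := A ⊗[k] k'
  let K := M.ResidueField
  haveI : IsScalarTower k k' K := IsScalarTower.of_algebraMap_eq fun l => by
    show algebraMap k K l = algebraMap k' K (algebraMap k k' l)
    rw [hj, IsScalarTower.algebraMap_apply k S K]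
    congr 1
    rw [Algebra.TensorProduct.algebraMap_apply, Algebra.algebraMap_eq_smul_one, Algebra.algebraMap_eq_smul_one,
      TensorProduct.smul_tmul]
  have hS : ∀ (a : A) (c : k'), algebraMap S K (a ⊗ₜ c) = algebraMap A K a * algebraMap k' K c := fun a c => by
    rw [hj, IsScalarTower.algebraMap_apply A S K a, ← map_mul]
    congr 1
    rw [Algebra.TensorProduct.algebraMap_apply, Algebra.algebraMap_self, RingHom.id_apply,
      Algebra.TensorProduct.tmul_mul_tmul, mul_one, one_mul]
  let d₁ : Derivation k A (K ⊗[A] OmegaHat k A) :=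
    (TensorProduct.mk A K (OmegaHat k A) 1).compDer (dHat k A)
  let d₂ : Derivation k k' (K ⊗[k'] Ω[k'⁄k]) :=
    (TensorProduct.mk k' K (Ω[k'⁄k]) 1).compDer (KaehlerDifferential.D k k')
  obtain ⟨δ, hδ⟩ := exists_tensor_derivation (K := K) hS d₁ d₂
    (by
      have h := span_baseChange_derivation (K := K) _ (span_dHat k A)
      rw [← Set.range_comp] at h
      exact h)
    (by
      have h := span_baseChange_derivation (K := K) _ (KaehlerDifferential.span_range_derivation k k')
      rw [← Set.range_comp] at h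
      exact h)
  haveI : IsScalarTower ℤ (A ⊗[k] k') ((K ⊗[A] OmegaHat k A) × (K ⊗[k'] Ω[k'⁄k])) :=
    ⟨fun m u v => by
      rw [← Int.cast_smul_eq_zsmul S m u, smul_eq_mul, mul_smul]
      exact Int.cast_smul_eq_zsmul S m (u • v)⟩
  refine LinearMap.rank_le_of_surjective (δ.liftKaehlerDifferential.liftBaseChange K) ?_
  rw [← LinearMap.range_eq_top, eq_top_iff, ← hδ, Submodule.span_le]
  rintro _ ⟨u, rfl⟩
  exact ⟨(1 : K) ⊗ₜ[S] KaehlerDifferential.D ℤ S u, by
    rw [LinearMap.liftBaseChange_tmul, one_smul, Derivation.liftKaehlerDifferential_comp_D]⟩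

/-- The fibre of the completed differentials at a geometrically regular prime, positive characteristic. -/
theorem finrank_fibre_le_charP (p : ℕ) [Fact p.Prime] [CharP k p] (hk : (frobenius k p).Finite)
    (hP : CAlg.IsGeometricallyRegular k (Localization.AtPrime P)) (h e : ℕ)
    (hh : ringKrullDim (Localization.AtPrime P) = h) (he : ringKrullDim (A ⧸ P) = e) :
    Module.finrank P.ResidueField (P.ResidueField ⊗[A] OmegaHat k A) ≤ h + e := by
  classical
  obtain ⟨k', iF, ⟨φ⟩⟩ : ∃ (k' : Type u) (_ : Field k'), Nonempty (k ≃+* k') := ⟨k, inferInstance, ⟨RingEquiv.refl k⟩⟩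
  letI : Algebra k k' := (φ.toRingHom.comp (frobenius k p)).toAlgebra
  haveI hk'fin : Module.Finite k k' := (RingHom.Finite.comp (RingHom.Finite.of_surjective φ.toRingHom φ.surjective) hk)
  haveI : Module.Finite k (Ω[k⁄ℤ]) := finite_kaehler_of_frobenius p ℤ k hk
  haveI : CharP k' p := charP_of_injective_ringHom (f := φ.toRingHom) φ.injective p
  obtain ⟨hk'Ω, hk'rk⟩ := finrank_kaehler_finite_ext k k'
  haveI := hk'Ω
  have hrel : Module.finrank k' (Ω[k'⁄k]) = Module.finrank k (Ω[k⁄ℤ]) := by
    refine (finrank_kaehler_of_D_eq_zero k k' fun c => ?_).trans hk'rk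
    show KaehlerDifferential.D ℤ k' (φ (c ^ p)) = 0
    rw [map_pow, Derivation.leibniz_pow, ← Nat.cast_smul_eq_nsmul k', CharP.cast_eq_zero k' p, zero_smul]
  haveI : IsNoetherianRing (A ⊗[k] k') := IsNoetherianRing.of_finite A _
  obtain ⟨M, hMprime, hlies, hreg, hdim⟩ := exists_regular_prime k A P hP k'
  haveI := hlies
  haveI := hreg
  obtain ⟨h', y, hh', hy, hgen⟩ := exists_generators M
  rw [← hh', hh, Nat.cast_le] at hdim
  let κ := P.ResidueField
  let κM := M.ResidueField
  letI := Localization.AtPrime.algebraOfLiesOver P M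
  haveI : Module.Finite κ κM := inferInstance
  obtain ⟨hκΩ, hκrk⟩ := finrank_kaehler_residueField k A P p hk e he
  haveI := hκΩ
  obtain ⟨hMΩ, hMrk⟩ := finrank_kaehler_finite_ext κ κM
  haveI : Module.Finite M.ResidueField (Ω[M.ResidueField⁄ℤ]) := hMΩ
  have hbound := rank_fibre_le_int M y hy hgen
  letI : Algebra k' κM :=
    ((algebraMap (A ⊗[k] k') κM).comp (Algebra.TensorProduct.includeRight : k' →ₐ[k] A ⊗[k] k').toRingHom).toAlgebra
  haveI : Module.Finite A (OmegaHat k A) := finite_omegaHat k A
  have h5 := (rank_fibre_tensor_le k A k' M fun c => rfl).trans hbound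
  let E := (κM ⊗[A] OmegaHat k A) × (κM ⊗[k'] Ω[k'⁄k])
  haveI : Module.Finite κM E := inferInstance
  rw [← Module.finrank_eq_rank κM E, Nat.cast_le, Module.finrank_prod] at h5
  have g1 : Module.finrank κM (κM ⊗[A] OmegaHat k A) = Module.finrank κ (κ ⊗[A] OmegaHat k A) := by
    rw [← (AlgebraTensorModule.cancelBaseChange A κ κM κM (OmegaHat k A)).finrank_eq, Module.finrank_baseChange]
  have g2 : Module.finrank κM (κM ⊗[k'] Ω[k'⁄k]) = Module.finrank k (Ω[k⁄ℤ]) := by
    rw [Module.finrank_baseChange, hrel]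
  show Module.finrank κ (κ ⊗[A] OmegaHat k A) ≤ h + e
  have g3 : Module.finrank M.ResidueField (Ω[M.ResidueField⁄ℤ]) = e + Module.finrank k (Ω[k⁄ℤ]) := hMrk.trans hκrk
  omega

end Groth.Agent.EGA418Dim
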